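import Mathlib.RepresentationTheory.Character
import Mathlib.LinearAlgebra.Eigenspace.Semisimple
import Mathlib.LinearAlgebra.Eigenspace.Zero
import Mathlib.RingTheory.RootsOfUnity.Complex
import Mathlib.Analysis.Complex.Polynomial.Basic
import Mathlib.Analysis.Convex.StrictConvexSpace
import Mathlib.Analysis.InnerProductSpace.Convex

/-!
# Diagonalisation of group elements in complex representations

Character values are sums of roots of unity.
-/

namespace Cfsg.Agent.Lib.Characters.Diag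

open Module Polynomial
open scoped ComplexConjugate

universe u v

/-- An endomorphism of finite order of a complex space has an eigenbasis of roots of unity. -/
theorem exists_eigenbasis_of_pow_eq_one {V : Type v} [AddCommGroup V] [Module ℂ V]
    [FiniteDimensional ℂ V] (f : Module.End ℂ V) {N : ℕ} (hN : N ≠ 0) (hf : f ^ N = 1) :
    ∃ (ι : Type v) (_ : Fintype ι) (b : Basis ι ℂ V) (ζ : ι → ℂ),
      ∀ i, f (b i) = ζ i • b i ∧ ζ i ^ N = 1 := by
  classical
  have hss : f.IsSemisimple := by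
    refine Module.End.isSemisimple_of_squarefree_aeval_eq_zero
      (p := (X ^ N - 1 : ℂ[X])) ?_ ?_
    · exact (X_pow_sub_one_separable_iff.mpr (Nat.cast_ne_zero.mpr hN)).squarefree
    · simp [hf]
  have htop := hss.iSup_eigenspace_eq_top
  have hind : iSupIndep f.eigenspace := Module.End.eigenspaces_iSupIndep f
  let S : Type := {μ : ℂ // f.eigenspace μ ≠ ⊥}
  have hfin : Finite S := WellFoundedGT.finite_ne_bot_of_iSupIndep hind
  have hind' : iSupIndep (fun μ : S => f.eigenspace μ.1) :=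
    hind.comp Subtype.val_injective
  have htop' : (⨆ μ : S, f.eigenspace μ.1) = ⊤ := by
    rw [← htop]
    exact iSup_ne_bot_subtype _
  have hint : DirectSum.IsInternal (fun μ : S => f.eigenspace μ.1) :=
    (DirectSum.isInternal_submodule_iff_iSupIndep_and_iSup_eq_top _).mpr ⟨hind', htop'⟩
  let b₀ := hint.collectedBasis (fun μ => Module.finBasis ℂ (f.eigenspace μ.1))
  let e := b₀.indexEquiv (Module.finBasis ℂ V)
  let b := b₀.reindex (e.trans Equiv.ulift.{v, 0}.symm)
  let ζ : ULift.{v} (Fin (Module.finrank ℂ V)) → ℂ := fun i => ((e.symm i.down).1 : S).1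
  refine ⟨_, inferInstance, b, ζ, fun i => ?_⟩
  have hmem : b i ∈ f.eigenspace (ζ i) := by
    simp only [b, ζ, Basis.reindex_apply]
    exact hint.collectedBasis_mem _ (e.symm i.down)
  have heq := Module.End.mem_eigenspace_iff.mp hmem
  refine ⟨heq, ?_⟩
  have hpow : ∀ k : ℕ, (f ^ k) (b i) = ζ i ^ k • b i := by
    intro k
    induction k with
    | zero => simp
    | succ k ih => rw [pow_succ, Module.End.mul_apply, heq, map_smul, ih, smul_smul, pow_succ']
  have h1 := hpow N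
  rw [hf, Module.End.one_apply] at h1
  have h2 : (ζ i ^ N - 1) • b i = 0 := by rw [sub_smul, one_smul, ← h1, sub_self]
  rcases smul_eq_zero.mp h2 with h | h
  · exact sub_eq_zero.mp h
  · exact absurd h (b.ne_zero i)

/-- The trace from an eigenbasis. -/
theorem trace_eq_sum_eigenvalues {V : Type v} [AddCommGroup V] [Module ℂ V] {ι : Type*}
    [Fintype ι] (b : Basis ι ℂ V) (f : Module.End ℂ V) (ζ : ι → ℂ)
    (h : ∀ i, f (b i) = ζ i • b i) : LinearMap.trace ℂ V f = ∑ i, ζ i := by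
  classical
  rw [LinearMap.trace_eq_matrix_trace ℂ b, Matrix.trace]
  refine Finset.sum_congr rfl fun i _ => ?_
  simp [Matrix.diag, LinearMap.toMatrix_apply, h i]

variable {G : Type u} [Group G] [Finite G] {V : Type v} [AddCommGroup V] [Module ℂ V]
  [FiniteDimensional ℂ V] (ρ : Representation ℂ G V)


omit [Finite G] in
theorem exists_eigenbasis (g : G) {N : ℕ} (hN : N ≠ 0) (hg : g ^ N = 1) :
    ∃ (ι : Type v) (_ : Fintype ι) (b : Basis ι ℂ V) (ζ : ι → ℂ),
      (∀ i, ρ g (b i) = ζ i • b i ∧ ζ i ^ N = 1) ∧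
      Fintype.card ι = Module.finrank ℂ V ∧ ρ.character g = ∑ i, ζ i := by
  obtain ⟨ι, hι, b, ζ, h⟩ := exists_eigenbasis_of_pow_eq_one (ρ g) hN
    (by rw [← map_pow, hg, map_one])
  exact ⟨ι, hι, b, ζ, h, (Module.finrank_eq_card_basis b).symm,
    trace_eq_sum_eigenvalues b (ρ g) ζ fun i => (h i).1⟩

theorem exists_eigenbasis_card (g : G) :
    ∃ (ι : Type v) (_ : Fintype ι) (b : Basis ι ℂ V) (ζ : ι → ℂ),
      (∀ i, ρ g (b i) = ζ i • b i ∧ ζ i ^ Nat.card G = 1) ∧
      Fintype.card ι = Module.finrank ℂ V ∧ ρ.character g = ∑ i, ζ i :=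
  exists_eigenbasis ρ g Nat.card_pos.ne' pow_card_eq_one'

theorem norm_eq_one_of_pow {z : ℂ} {N : ℕ} (hN : N ≠ 0) (hz : z ^ N = 1) : ‖z‖ = 1 :=
  Complex.norm_eq_one_of_pow_eq_one hz hN

theorem conj_eq_inv_of_pow {z : ℂ} {N : ℕ} (hN : N ≠ 0) (hz : z ^ N = 1) : conj z = z⁻¹ :=
  (Complex.inv_eq_conj (norm_eq_one_of_pow hN hz)).symm

/-- `χ(g⁻¹) = conj (χ g)`. -/
theorem char_inv_eq_conj (g : G) : ρ.character g⁻¹ = conj (ρ.character g) := by
  obtain ⟨ι, hι, b, ζ, hb, -, hchar⟩ := exists_eigenbasis_card ρ g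
  have hinv : ∀ i, ρ g⁻¹ (b i) = (ζ i)⁻¹ • b i := by
    intro i
    have h0 : ζ i ≠ 0 := fun h => by
      have := (hb i).2
      rw [h, zero_pow Nat.card_pos.ne'] at this
      exact zero_ne_one this
    have := congrArg (ρ g⁻¹) (hb i).1
    rw [← Module.End.mul_apply, ← map_mul, inv_mul_cancel, map_one, Module.End.one_apply,
      map_smul] at this
    rw [eq_inv_smul_iff₀ h0]
    exact this.symm
  rw [hchar, map_sum]
  show LinearMap.trace ℂ V (ρ g⁻¹) = _
  rw [trace_eq_sum_eigenvalues b _ _ hinv]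
  exact Finset.sum_congr rfl fun i _ =>
    (conj_eq_inv_of_pow Nat.card_pos.ne' (hb i).2).symm

theorem norm_char_le (g : G) : ‖ρ.character g‖ ≤ (Module.finrank ℂ V : ℝ) := by
  obtain ⟨ι, hι, b, ζ, hb, hcard, hchar⟩ := exists_eigenbasis_card ρ g
  rw [hchar, ← hcard]
  refine (norm_sum_le _ _).trans (le_of_eq ?_)
  simp [fun i => norm_eq_one_of_pow Nat.card_pos.ne' (hb i).2]

theorem isIntegral_char (g : G) : IsIntegral ℤ (ρ.character g) := by
  obtain ⟨ι, hι, b, ζ, hb, hcard, hchar⟩ := exists_eigenbasis_card ρ g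
  rw [hchar]
  refine IsIntegral.sum _ fun i _ => ⟨X ^ Nat.card G - C 1,
    monic_X_pow_sub_C 1 Nat.card_pos.ne', ?_⟩
  simp [(hb i).2]

/-- If the norm of the character value is the degree, the element acts as a scalar. -/
theorem exists_smul_of_norm_char_eq (g : G) (h : ‖ρ.character g‖ = (Module.finrank ℂ V : ℝ)) :
    ∃ ω : ℂ, ρ g = ω • (LinearMap.id : V →ₗ[ℂ] V) := by
  obtain ⟨ι, hι, b, ζ, hb, hcard, hchar⟩ := exists_eigenbasis_card ρ g
  rcases isEmpty_or_nonempty ι with hE | ⟨⟨i₀⟩⟩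
  · exact ⟨0, b.ext fun i => (hE.false i).elim⟩
  have hn : ∀ i, ‖ζ i‖ = 1 := fun i => norm_eq_one_of_pow Nat.card_pos.ne' (hb i).2
  refine ⟨ζ i₀, b.ext fun i => ?_⟩
  rw [(hb i).1, LinearMap.smul_apply, LinearMap.id_coe, id_eq]
  congr 1
  classical
  by_contra hne
  have hle : ∀ j, ‖ζ j‖ ≤ 1 := fun j => (hn j).le
  have hlt : ‖ζ i + ζ i₀‖ < 2 := by
    have := (norm_add_lt_of_not_sameRay (E := ℂ) (x := ζ i) (y := ζ i₀) ?_)
    · rw [hn i, hn i₀] at this; linarith
    · rw [not_sameRay_iff_of_norm_eq (by rw [hn i, hn i₀])]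
      exact hne
  have hne' : i ≠ i₀ := fun h => hne (h ▸ rfl)
  have key : ‖∑ j, ζ j‖ < (Fintype.card ι : ℝ) := by
    have hsplit : ∑ j, ζ j = (ζ i + ζ i₀) + ∑ j ∈ ({i, i₀} : Finset ι)ᶜ, ζ j := by
      rw [← Finset.sum_add_sum_compl ({i, i₀} : Finset ι) ζ, Finset.sum_pair hne']
    have hc : (({i, i₀} : Finset ι)ᶜ.card : ℝ) + 2 = (Fintype.card ι : ℝ) := by
      have := Finset.card_compl_add_card ({i, i₀} : Finset ι)
      rw [Finset.card_pair hne'] at this
      exact_mod_cast this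
    rw [hsplit, ← hc]
    refine (norm_add_le _ _).trans_lt ?_
    have : ‖∑ j ∈ ({i, i₀} : Finset ι)ᶜ, ζ j‖ ≤ (({i, i₀} : Finset ι)ᶜ.card : ℝ) := by
      refine (norm_sum_le _ _).trans ?_
      simp [hn]
    linarith
  rw [← hchar, hcard, h] at key
  exact lt_irrefl _ key

theorem norm_char_eq_finrank_iff (g : G) :
    ‖ρ.character g‖ = (Module.finrank ℂ V : ℝ) ↔
      ∃ ω : ℂ, ρ g = ω • (LinearMap.id : V →ₗ[ℂ] V) := by
  refine ⟨exists_smul_of_norm_char_eq ρ g, ?_⟩
  rintro ⟨ω, hω⟩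
  rcases Nat.eq_zero_or_pos (Module.finrank ℂ V) with h0 | h0
  · have := norm_char_le ρ g
    rw [h0, Nat.cast_zero] at this ⊢
    exact le_antisymm this (norm_nonneg _)
  have htr : ρ.character g = ω * (Module.finrank ℂ V : ℂ) := by
    simp [Representation.character, hω, LinearMap.trace_id]
  have : Nontrivial V := Module.finrank_pos_iff.mp h0
  have hωN : ω ^ Nat.card G = 1 := by
    have h1 : (ρ g) ^ Nat.card G = 1 := by rw [← map_pow, pow_card_eq_one', map_one]
    rw [hω, ← Module.End.one_eq_id, smul_pow, one_pow] at h1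
    exact (smul_left_injective ℂ (one_ne_zero : (1 : Module.End ℂ V) ≠ 0))
      (by simp only [one_smul]; exact h1)
  rw [htr, norm_mul, norm_eq_one_of_pow Nat.card_pos.ne' hωN]
  simp

theorem char_eq_finrank_iff (g : G) :
    ρ.character g = (Module.finrank ℂ V : ℂ) ↔ ρ g = LinearMap.id := by
  refine ⟨fun h => ?_, fun h => by simp [Representation.character, h, LinearMap.trace_id]⟩
  obtain ⟨ω, hω⟩ := exists_smul_of_norm_char_eq ρ g (by rw [h]; simp)
  rcases Nat.eq_zero_or_pos (Module.finrank ℂ V) with h0 | h0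
  · have : Subsingleton V := Module.finrank_zero_iff.mp h0
    exact LinearMap.ext fun x => Subsingleton.elim _ _
  have htr : ρ.character g = ω * (Module.finrank ℂ V : ℂ) := by
    simp [Representation.character, hω, LinearMap.trace_id]
  have hω1 : ω = 1 := by
    rw [h] at htr
    have hne : (Module.finrank ℂ V : ℂ) ≠ 0 := Nat.cast_ne_zero.mpr h0.ne'
    exact (mul_eq_right₀ hne).mp htr.symm
  simp [hω, hω1]

end Cfsg.Agent.Lib.Characters.Diag
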