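import Cfsg.Agent.Lib.Characters.Basic
import Mathlib.GroupTheory.GroupAction.ConjAct
import Mathlib.GroupTheory.GroupAction.Quotient

/-!
# Completeness of irreducible characters

* class functions are combinations of irreducible characters;
* number of irreducible characters = number of conjugacy classes;
* second orthogonality, regular character, sum of squares of degrees;
* representations with equal characters are equivalent.
-/

namespace Cfsg.Agent.Lib.Characters.Complete

open Module Representation
open scoped ComplexConjugate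
open Cfsg.Agent.Lib.Induced.Basic Cfsg.Agent.Lib.Characters.Basic

universe u v w

variable {G : Type u} [Group G]

theorem classFun_add {φ ψ : G → ℂ} (h : Cfsg.IsClassFunction G φ)
    (h' : Cfsg.IsClassFunction G ψ) : Cfsg.IsClassFunction G (φ + ψ) :=
  fun g x => by simp [h g x, h' g x]

theorem classFun_smul (c : ℂ) {φ : G → ℂ} (h : Cfsg.IsClassFunction G φ) :
    Cfsg.IsClassFunction G (c • φ) :=
  fun g x => by simp [h g x]

theorem classFun_sub {φ ψ : G → ℂ} (h : Cfsg.IsClassFunction G φ)
    (h' : Cfsg.IsClassFunction G ψ) : Cfsg.IsClassFunction G (φ - ψ) :=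
  fun g x => by simp [h g x, h' g x]

theorem classFun_zero : Cfsg.IsClassFunction G (0 : G → ℂ) := fun _ _ => rfl

theorem classFun_sum {ι : Type*} (s : Finset ι) {f : ι → G → ℂ}
    (h : ∀ i ∈ s, Cfsg.IsClassFunction G (f i)) : Cfsg.IsClassFunction G (∑ i ∈ s, f i) :=
  Finset.sum_induction f _ (fun _ _ => classFun_add) classFun_zero h

section

variable [Fintype G]

/-- The operator `∑ θ(g) ρ(g⁻¹)`. -/
noncomputable def avg {V : Type v} [AddCommGroup V] [Module ℂ V] (θ : G → ℂ)
    (ρ : Representation ℂ G V) : Module.End ℂ V :=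
  ∑ g : G, θ g • ρ g⁻¹

theorem avg_comm {V : Type v} [AddCommGroup V] [Module ℂ V] {θ : G → ℂ}
    (hθ : Cfsg.IsClassFunction G θ) (ρ : Representation ℂ G V) (x : G) :
    avg θ ρ * ρ x = ρ x * avg θ ρ := by
  simp only [avg, Finset.sum_mul, Finset.mul_sum, smul_mul_assoc, mul_smul_comm, ← map_mul]
  refine (Fintype.sum_equiv (MulAut.conj x).toEquiv _ _ fun g => ?_).symm
  have hg : θ (x * (g * x⁻¹)) = θ g := by rw [← mul_assoc]; exact hθ g x
  simp [MulAut.conj_apply, hg, mul_assoc]

theorem avg_eq_scalar {V : Type v} [AddCommGroup V] [Module ℂ V] [FiniteDimensional ℂ V]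
    {θ : G → ℂ} (hθ : Cfsg.IsClassFunction G θ) (ρ : Representation ℂ G V) [ρ.IsIrreducible] :
    ∃ c : ℂ, avg θ ρ = c • 1 ∧
      c * (finrank ℂ V : ℂ) = ∑ g : G, θ g * conj (ρ.character g) := by
  let f : IntertwiningMap ρ ρ := ⟨avg θ ρ, fun g => avg_comm hθ ρ g⟩
  obtain ⟨c, hc⟩ := (IsIrreducible.algebraMap_intertwiningMap_bijective_of_isAlgClosed
    (ρ := ρ)).2 f
  have hT : avg θ ρ = c • 1 := by
    have := congrArg IntertwiningMap.toLinearMap hc
    rw [Algebra.algebraMap_eq_smul_one] at this
    exact this.symm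
  refine ⟨c, hT, ?_⟩
  have htr := congrArg (LinearMap.trace ℂ V) hT
  rw [avg, map_sum, map_smul, LinearMap.trace_one, smul_eq_mul] at htr
  rw [← htr]
  refine Finset.sum_congr rfl fun g _ => ?_
  rw [map_smul, smul_eq_mul, ← Diag.char_inv_eq_conj]
  rfl

theorem avg_eq_zero {θ : G → ℂ} (hθ : Cfsg.IsClassFunction G θ)
    (h0 : ∀ χ : Cfsg.IrrCharacter G, Cfsg.classInner θ χ = 0)
    {V : Type v} [AddCommGroup V] [Module ℂ V] [FiniteDimensional ℂ V]
    (ρ : Representation ℂ G V) : avg θ ρ = 0 := by
  suffices H : ∀ (d : ℕ) {V : Type v} [AddCommGroup V] [Module ℂ V] [FiniteDimensional ℂ V]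
      (ρ : Representation ℂ G V), finrank ℂ V = d → avg θ ρ = 0 from H _ ρ rfl
  intro d
  induction d using Nat.strong_induction_on with
  | _ d ih =>
    intro V _ _ _ ρ hd
    rcases rep_trichotomy ρ with hV | hirr | ⟨p, q, hpq, hp, hq⟩
    · exact Subsingleton.elim _ _
    · obtain ⟨c, hc, hc'⟩ := avg_eq_scalar hθ ρ
      have := h0 (irrChar ρ)
      rw [Cfsg.classInner, coe_irrChar, ← hc', mul_eq_zero, inv_eq_zero,
        mul_eq_zero] at this
      rcases this with h | h | h
      · exact absurd h natCard_ne_zero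
      · rw [hc, h, zero_smul]
      · exact absurd h (Nat.cast_ne_zero.mpr (finrank_pos_of_isIrreducible ρ).ne')
    · have key : ∀ r : Subrepresentation ρ, finrank ℂ r.toSubmodule < d →
          ∀ x ∈ r.toSubmodule, avg θ ρ x = 0 := by
        intro r hr x hx
        have := congrArg Subtype.val
          (LinearMap.congr_fun (ih _ hr r.toRepresentation rfl) ⟨x, hx⟩)
        simpa [avg, Subrepresentation.toRepresentation] using this
      refine LinearMap.ext fun x => ?_
      have hx : x ∈ p.toSubmodule ⊔ q.toSubmodule := by rw [hpq.sup_eq_top]; trivial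
      obtain ⟨y, hy, z, hz, rfl⟩ := Submodule.mem_sup.mp hx
      rw [map_add, key p (hd ▸ hp) y hy, key q (hd ▸ hq) z hz, add_zero, LinearMap.zero_apply]

/-- A class function orthogonal to all irreducible characters vanishes. -/
theorem eq_zero_of_classInner_eq_zero {θ : G → ℂ} (hθ : Cfsg.IsClassFunction G θ)
    (h0 : ∀ χ : Cfsg.IrrCharacter G, Cfsg.classInner θ χ = 0) : θ = 0 := by
  classical
  funext g
  have h := LinearMap.congr_fun (avg_eq_zero hθ h0 (leftRegular ℂ G))
    (MonoidAlgebra.single (1 : G) (1 : ℂ))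
  have h' := congrArg (fun x : MonoidAlgebra ℂ G => x.coeff g⁻¹) h
  simpa [avg, MonoidAlgebra.coeff_single, Finsupp.single_apply] using h'

theorem classFun_irr_sum (θ : G → ℂ) :
    Cfsg.IsClassFunction G
      (∑ᶠ χ : Cfsg.IrrCharacter G, Cfsg.classInner θ χ • (χ : G → ℂ)) := by
  classical
  have := Fintype.ofFinite (Cfsg.IrrCharacter G)
  rw [finsum_eq_sum_of_fintype]
  exact classFun_sum _ fun χ _ => classFun_smul _ (isClassFunction_irr χ)

theorem classInner_irr_sum [Fintype (Cfsg.IrrCharacter G)] (c : Cfsg.IrrCharacter G → ℂ)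
    (ψ : Cfsg.IrrCharacter G) :
    Cfsg.classInner (∑ χ, c χ • (χ : G → ℂ)) ψ = c ψ := by
  classical
  simp [classInner_sum_left, classInner_smul_left, classInner_irr]

/-- Fourier expansion of class functions. -/
theorem classFunction_eq_finsum {θ : G → ℂ} (hθ : Cfsg.IsClassFunction G θ) :
    θ = ∑ᶠ χ : Cfsg.IrrCharacter G, Cfsg.classInner θ χ • (χ : G → ℂ) := by
  classical
  have := Fintype.ofFinite (Cfsg.IrrCharacter G)
  refine sub_eq_zero.mp (eq_zero_of_classInner_eq_zero (classFun_sub hθ (classFun_irr_sum θ))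
    fun χ => ?_)
  rw [classInner_sub_left, finsum_eq_sum_of_fintype, classInner_irr_sum, sub_self]

theorem classFunction_ext {φ ψ : G → ℂ} (h : Cfsg.IsClassFunction G φ)
    (h' : Cfsg.IsClassFunction G ψ)
    (heq : ∀ χ : Cfsg.IrrCharacter G, Cfsg.classInner φ χ = Cfsg.classInner ψ χ) : φ = ψ :=
  sub_eq_zero.mp (eq_zero_of_classInner_eq_zero (classFun_sub h h') fun χ => by
    rw [classInner_sub_left, heq, sub_self])

theorem classFunction_eq_sum [Fintype (Cfsg.IrrCharacter G)] {θ : G → ℂ}
    (hθ : Cfsg.IsClassFunction G θ) :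
    θ = ∑ χ : Cfsg.IrrCharacter G, Cfsg.classInner θ χ • (χ : G → ℂ) := by
  simpa [finsum_eq_sum_of_fintype] using classFunction_eq_finsum hθ

/-- The regular character. -/
theorem char_leftRegular [DecidableEq G] (g : G) :
    (leftRegular ℂ G).character g = if g = 1 then (Nat.card G : ℂ) else 0 := by
  classical
  rw [Representation.character, LinearMap.trace_eq_matrix_trace ℂ (MonoidAlgebra.basis G ℂ),
    Matrix.trace]
  simp only [Matrix.diag, LinearMap.toMatrix_apply]
  have hterm : ∀ x : G, (MonoidAlgebra.basis G ℂ).repr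
      (leftRegular ℂ G g (MonoidAlgebra.basis G ℂ x)) x = if g = 1 then 1 else 0 := by
    intro x
    by_cases hg : g = 1
    · simp [hg, MonoidAlgebra.basis]
    · simp [hg, MonoidAlgebra.basis, MonoidAlgebra.coeff_single]
  rw [Finset.sum_congr rfl fun x _ => hterm x]
  by_cases hg : g = 1 <;> simp [hg]

theorem classInner_regular (χ : Cfsg.IrrCharacter G) :
    Cfsg.classInner (leftRegular ℂ G).character (χ : G → ℂ) = (χ : G → ℂ) 1 := by
  classical
  rw [Cfsg.classInner, Finset.sum_eq_single 1]
  · rw [char_leftRegular, if_pos rfl, conj_apply_one (isCharacter_irr χ), ← mul_assoc,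
      inv_mul_cancel₀ natCard_ne_zero, one_mul]
  · intro g _ hg
    rw [char_leftRegular, if_neg hg, zero_mul]
  · simp

/-- The regular character is the degree-weighted sum of the irreducible characters. -/
theorem regular_eq_finsum :
    (leftRegular ℂ G).character =
      ∑ᶠ χ : Cfsg.IrrCharacter G, (χ : G → ℂ) 1 • (χ : G → ℂ) := by
  rw [classFunction_eq_finsum (isClassFunction_character (leftRegular ℂ G))]
  simp_rw [classInner_regular]

end

/-- `∑ χ(1) χ(g)` is the regular character. -/
theorem sum_degree_mul_apply [Finite G] [Fintype (Cfsg.IrrCharacter G)] [DecidableEq G] (g : G) :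
    ∑ χ : Cfsg.IrrCharacter G, (χ : G → ℂ) 1 * (χ : G → ℂ) g =
      if g = 1 then (Nat.card G : ℂ) else 0 := by
  have := Fintype.ofFinite G
  have h := congrFun (regular_eq_finsum (G := G)) g
  rw [char_leftRegular, finsum_eq_sum_of_fintype] at h
  simpa using h.symm

/-- The sum of the squares of the degrees is the group order. -/
theorem finsum_degree_sq [Finite G] :
    ∑ᶠ χ : Cfsg.IrrCharacter G, (χ : G → ℂ) 1 ^ 2 = (Nat.card G : ℂ) := by
  classical
  have := Fintype.ofFinite (Cfsg.IrrCharacter G)
  rw [finsum_eq_sum_of_fintype]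
  simpa [pow_two] using sum_degree_mul_apply (1 : G)

/-- The class functions as a submodule. -/
def classSubmodule (G : Type u) [Group G] : Submodule ℂ (G → ℂ) where
  carrier := {θ | Cfsg.IsClassFunction G θ}
  add_mem' := classFun_add
  zero_mem' := classFun_zero
  smul_mem' := classFun_smul

/-- Class functions are the functions on conjugacy classes. -/
noncomputable def classSubmoduleEquiv (G : Type u) [Group G] :
    classSubmodule G ≃ₗ[ℂ] (ConjClasses G → ℂ) where
  toFun θ := Quotient.lift (θ : G → ℂ) fun _ _ h => classFunction_apply_of_isConj θ.2 h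
  invFun f := ⟨fun g => f (ConjClasses.mk g), fun g h =>
    congrArg f (ConjClasses.mk_eq_mk_iff_isConj.mpr (isConj_iff.mpr ⟨h, rfl⟩).symm)⟩
  left_inv _ := rfl
  right_inv f := funext fun c => Quotient.inductionOn c fun _ => rfl
  map_add' _ _ := funext fun c => Quotient.inductionOn c fun _ => rfl
  map_smul' _ _ := funext fun c => Quotient.inductionOn c fun _ => rfl

/-- The irreducible characters span the class functions. -/
theorem span_irr [Finite G] :
    Submodule.span ℂ (Set.range fun χ : Cfsg.IrrCharacter G => (χ : G → ℂ)) =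
      classSubmodule G := by
  classical
  have := Fintype.ofFinite G
  have := Fintype.ofFinite (Cfsg.IrrCharacter G)
  refine le_antisymm (Submodule.span_le.mpr ?_) fun θ hθ => ?_
  · rintro _ ⟨χ, rfl⟩
    exact isClassFunction_irr χ
  · rw [classFunction_eq_sum (θ := θ) hθ]
    exact sum_mem fun χ _ => Submodule.smul_mem _ _ (Submodule.subset_span ⟨χ, rfl⟩)

/-- As many irreducible characters as conjugacy classes. -/
theorem card_irr_eq_card_conjClasses [Finite G] :
    Nat.card (Cfsg.IrrCharacter G) = Nat.card (ConjClasses G) := by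
  classical
  have := Fintype.ofFinite G
  have := Fintype.ofFinite (Cfsg.IrrCharacter G)
  have : Finite (ConjClasses G) := Finite.of_surjective _ ConjClasses.mk_surjective
  have := Fintype.ofFinite (ConjClasses G)
  have h := finrank_span_eq_card (linearIndependent_irr (G := G))
  rw [span_irr, (classSubmoduleEquiv G).finrank_eq, Module.finrank_fintype_fun_eq_card] at h
  rw [Nat.card_eq_fintype_card, Nat.card_eq_fintype_card, h]

theorem card_conjugates_mul_centralizer [Finite G] (g : G) :
    Nat.card {x : G // IsConj g x} * Nat.card (Subgroup.centralizer ({g} : Set G)) =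
      Nat.card G := by
  have h : ({x : G | IsConj g x}) = MulAction.orbit (ConjAct G) g := by
    ext x
    rw [ConjAct.mem_orbit_conjAct]
    exact isConj_comm
  have h2 : Nat.card {x : G // IsConj g x} = (Subgroup.centralizer ({g} : Set G)).index := by
    show Nat.card ({x : G | IsConj g x}) = _
    rw [h, Subgroup.centralizer_eq_comap_stabilizer]
    refine (MulAction.index_stabilizer (ConjAct G) g).symm.trans ?_
    exact (Subgroup.index_comap_of_surjective
      (f := (ConjAct.toConjAct (G := G)).toMonoidHom) (MulAction.stabilizer (ConjAct G) g)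
      (ConjAct.toConjAct (G := G)).surjective).symm
  rw [h2, mul_comm, Subgroup.card_mul_index]

open scoped Classical in
/-- Second orthogonality relation. -/
theorem sum_irr_mul_conj [Finite G] [Fintype (Cfsg.IrrCharacter G)] (g h : G) :
    ∑ χ : Cfsg.IrrCharacter G, (χ : G → ℂ) g * conj ((χ : G → ℂ) h) =
      if IsConj g h then (Nat.card (Subgroup.centralizer ({g} : Set G)) : ℂ) else 0 := by
  have := Fintype.ofFinite G
  let θ : G → ℂ := fun x => if IsConj h x then 1 else 0
  have hθ : Cfsg.IsClassFunction G θ := by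
    intro x c
    have : IsConj x (c * x * c⁻¹) := isConj_iff.mpr ⟨c, rfl⟩
    simp only [θ]
    exact if_congr ⟨fun e => e.trans this.symm, fun e => e.trans this⟩ rfl rfl
  have hinner : ∀ χ : Cfsg.IrrCharacter G, Cfsg.classInner θ χ =
      (Nat.card {x : G // IsConj h x} : ℂ) / Nat.card G * conj ((χ : G → ℂ) h) := by
    intro χ
    have : ∀ x : G, θ x * conj ((χ : G → ℂ) x) = θ x * conj ((χ : G → ℂ) h) := by
      intro x
      simp only [θ]
      split_ifs with hx
      · rw [classFunction_apply_of_isConj (isClassFunction_irr χ) hx]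
      · simp
    rw [Cfsg.classInner, Finset.sum_congr rfl fun x _ => this x, ← Finset.sum_mul,
      ← mul_assoc, div_eq_inv_mul]
    congr 2
    simp [θ, Nat.card_eq_fintype_card, Fintype.card_subtype]
  have key := congrFun (classFunction_eq_sum hθ) g
  simp only [hinner, Finset.sum_apply, Pi.smul_apply, smul_eq_mul, mul_assoc,
    ← Finset.mul_sum, mul_comm (conj _)] at key
  have hG : (Nat.card G : ℂ) ≠ 0 := natCard_ne_zero
  have hcard := card_conjugates_mul_centralizer h
  have hne : (Nat.card {x : G // IsConj h x} : ℂ) ≠ 0 := by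
    intro h0
    rw [Nat.cast_eq_zero] at h0
    rw [h0, zero_mul] at hcard
    exact Nat.card_pos.ne hcard
  have hS : ∑ χ : Cfsg.IrrCharacter G, (χ : G → ℂ) g * conj ((χ : G → ℂ) h) =
      θ g * (Nat.card (Subgroup.centralizer ({h} : Set G)) : ℂ) := by
    rw [key, mul_right_comm, div_mul_eq_mul_div, ← Nat.cast_mul, hcard, div_self hG, one_mul]
  rw [hS]
  simp only [θ]
  by_cases hgh : IsConj g h
  · rw [if_pos hgh, if_pos hgh.symm, one_mul]
    obtain ⟨c, rfl⟩ := isConj_iff.mp hgh
    have h1 := card_conjugates_mul_centralizer g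
    have h2 : Nat.card {x : G // IsConj g x} = Nat.card {x : G // IsConj (c * g * c⁻¹) x} :=
      Nat.card_congr (_root_.Equiv.subtypeEquivRight fun x =>
        ⟨hgh.symm.trans, hgh.trans⟩)
    rw [h2] at h1
    have hne' : Nat.card {x : G // IsConj (c * g * c⁻¹) x} ≠ 0 := by exact_mod_cast hne
    rw [Nat.eq_of_mul_eq_mul_left (Nat.pos_of_ne_zero hne') (hcard.trans h1.symm)]
  · rw [if_neg hgh, if_neg fun e => hgh e.symm, zero_mul]

/-- Irreducible characters separate conjugacy classes. -/
theorem isConj_iff_forall_irr [Finite G] (g h : G) :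
    IsConj g h ↔ ∀ χ : Cfsg.IrrCharacter G, (χ : G → ℂ) g = (χ : G → ℂ) h := by
  classical
  have := Fintype.ofFinite (Cfsg.IrrCharacter G)
  refine ⟨fun hc χ => classFunction_apply_of_isConj (isClassFunction_irr χ) hc, fun hall => ?_⟩
  by_contra hne
  have h1 := sum_irr_mul_conj g h
  have h2 := sum_irr_mul_conj h h
  simp only [hall, if_neg hne] at h1
  rw [h1, if_pos (IsConj.refl h)] at h2
  exact Nat.card_pos.ne (by exact_mod_cast h2)

/-- The common kernel of the irreducible characters is trivial. -/
theorem eq_one_of_forall_irr [Finite G] {g : G}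
    (h : ∀ χ : Cfsg.IrrCharacter G, (χ : G → ℂ) g = (χ : G → ℂ) 1) : g = 1 :=
  isConj_one_left.mp ((isConj_iff_forall_irr g 1).mpr h)

/-- A nonzero representation has an irreducible constituent. -/
theorem exists_constituent [Fintype G] {V : Type v} [AddCommGroup V] [Module ℂ V]
    [FiniteDimensional ℂ V] (ρ : Representation ℂ G V) (hpos : 0 < finrank ℂ V) :
    ∃ (n : ℕ) (τ : Representation ℂ G (Fin n → ℂ)), τ.IsIrreducible ∧
      Cfsg.classInner ρ.character τ.character ≠ 0 := by
  obtain ⟨χ, hχ⟩ : ∃ χ : Cfsg.IrrCharacter G,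
      Cfsg.classInner ρ.character (χ : G → ℂ) ≠ 0 := by
    by_contra hall
    push Not at hall
    have h0 := eq_zero_of_classInner_eq_zero (isClassFunction_character ρ) hall
    have h1 := congrFun h0 1
    rw [char_one, Pi.zero_apply, Nat.cast_eq_zero] at h1
    omega
  obtain ⟨n, τ, hτ, hc⟩ := exists_rep χ
  exact ⟨n, τ, hτ, hc.symm ▸ hχ⟩

/-- An irreducible constituent is a direct summand. -/
theorem exists_summand [Fintype G] {n : ℕ} (τ : Representation ℂ G (Fin n → ℂ))
    [hτ : τ.IsIrreducible] {V : Type v} [AddCommGroup V] [Module ℂ V]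
    [FiniteDimensional ℂ V] (ρ : Representation ℂ G V)
    (hne : Cfsg.classInner ρ.character τ.character ≠ 0) :
    ∃ p q : Subrepresentation ρ, IsCompl p.toSubmodule q.toSubmodule ∧
      Nonempty (τ.Equiv p.toRepresentation) := by
  rw [classInner_character_eq_finrank, Nat.cast_ne_zero] at hne
  have : Nontrivial (IntertwiningMap τ ρ) :=
    Module.finrank_pos_iff.mp (Nat.pos_of_ne_zero hne)
  obtain ⟨f, hf⟩ := exists_ne (0 : IntertwiningMap τ ρ)
  have hinj : Function.Injective f.toLinearMap :=
    (IsIrreducible.injective_or_eq_zero f).resolve_right hf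
  let p : Subrepresentation ρ := ⟨LinearMap.range f.toLinearMap, by
    rintro g _ ⟨v, rfl⟩
    exact ⟨τ g v, congrArg (fun F : _ →ₗ[ℂ] V => F v) (f.isIntertwining' g)⟩⟩
  have : NeZero (Nat.card G : ℂ) := ⟨natCard_ne_zero⟩
  obtain ⟨q, hq⟩ := exists_isCompl p
  have hsub : IsCompl p.toSubmodule q.toSubmodule :=
    ⟨disjoint_iff.mpr (congrArg Subrepresentation.toSubmodule hq.1.eq_bot),
      codisjoint_iff.mpr (congrArg Subrepresentation.toSubmodule hq.2.eq_top)⟩
  exact ⟨p, q, hsub, ⟨Representation.Equiv.mk (LinearEquiv.ofInjective f.toLinearMap hinj)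
    fun g => LinearMap.ext fun v => Subtype.ext
      (congrArg (fun F : _ →ₗ[ℂ] V => F v) (f.isIntertwining' g))⟩⟩

/-- Representations with equal characters are equivalent. -/
theorem nonempty_equiv_of_char_eq [Finite G] {V : Type v} [AddCommGroup V] [Module ℂ V]
    [FiniteDimensional ℂ V] {W : Type w} [AddCommGroup W] [Module ℂ W] [FiniteDimensional ℂ W]
    (ρ : Representation ℂ G V) (σ : Representation ℂ G W) (h : ρ.character = σ.character) :
    Nonempty (ρ.Equiv σ) := by
  classical
  have := Fintype.ofFinite G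
  suffices H : ∀ (d : ℕ) {V : Type v} [AddCommGroup V] [Module ℂ V] [FiniteDimensional ℂ V]
      {W : Type w} [AddCommGroup W] [Module ℂ W] [FiniteDimensional ℂ W]
      (ρ : Representation ℂ G V) (σ : Representation ℂ G W),
      ρ.character = σ.character → finrank ℂ V = d → Nonempty (ρ.Equiv σ) from H _ ρ σ h rfl
  intro d
  induction d using Nat.strong_induction_on with
  | _ d ih =>
    intro V _ _ _ W _ _ _ ρ σ h hd
    have hdim : finrank ℂ W = d := by
      have := congrFun h 1
      rw [char_one, char_one, Nat.cast_inj] at this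
      omega
    rcases Nat.eq_zero_or_pos d with rfl | hd0
    · have : Subsingleton V := Module.finrank_zero_iff.mp hd
      have : Subsingleton W := Module.finrank_zero_iff.mp hdim
      exact ⟨Representation.Equiv.mk (LinearEquiv.ofSubsingleton V W)
        fun g => LinearMap.ext fun x => Subsingleton.elim _ _⟩
    obtain ⟨n, τ, hτ, hne⟩ := exists_constituent ρ (by rw [hd]; exact hd0)
    obtain ⟨p, q, hpq, ⟨φ₁⟩⟩ := exists_summand τ ρ hne
    obtain ⟨p', q', hpq', ⟨φ₂⟩⟩ := exists_summand τ σ (h ▸ hne)
    have hc : q.toRepresentation.character = q'.toRepresentation.character := by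
      have h1 := char_add_of_isCompl σ p' q' hpq'
      rw [← h, char_add_of_isCompl ρ p q hpq, ← char_iso φ₁, ← char_iso φ₂] at h1
      exact add_left_cancel h1
    have hq : finrank ℂ q.toSubmodule < d := by
      have h1 := Submodule.finrank_add_eq_of_isCompl hpq
      have h2 := φ₁.toLinearEquiv.finrank_eq
      have := hτ
      have h3 := finrank_pos_of_isIrreducible τ
      omega
    obtain ⟨ψ⟩ := ih _ hq q.toRepresentation q'.toRepresentation hc rfl
    let φ := φ₁.symm.trans φ₂
    let e : V ≃ₗ[ℂ] W := (Submodule.prodEquivOfIsCompl _ _ hpq).symm.trans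
      ((φ.toLinearEquiv.prodCongr ψ.toLinearEquiv).trans
        (Submodule.prodEquivOfIsCompl _ _ hpq'))
    refine ⟨Representation.Equiv.mk e fun g => LinearMap.ext fun x => ?_⟩
    obtain ⟨⟨y, z⟩, rfl⟩ := (Submodule.prodEquivOfIsCompl _ _ hpq).surjective x
    have hg : ρ g (Submodule.prodEquivOfIsCompl _ _ hpq (y, z)) =
        Submodule.prodEquivOfIsCompl _ _ hpq
          (p.toRepresentation g y, q.toRepresentation g z) := by
      simp [Subrepresentation.toRepresentation]
    have h1 : φ.toLinearEquiv (p.toRepresentation g y) =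
        p'.toRepresentation g (φ.toLinearEquiv y) :=
      congrArg (fun f : _ →ₗ[ℂ] _ => f y) (φ.toIntertwiningMap.isIntertwining' g)
    have h2 : ψ.toLinearEquiv (q.toRepresentation g z) =
        q'.toRepresentation g (ψ.toLinearEquiv z) :=
      congrArg (fun f : _ →ₗ[ℂ] _ => f z) (ψ.toIntertwiningMap.isIntertwining' g)
    rw [LinearMap.comp_apply, LinearMap.comp_apply, hg]
    simp only [e, LinearEquiv.coe_coe, LinearEquiv.trans_apply,
      LinearEquiv.symm_apply_apply, LinearEquiv.prodCongr_apply, h1, h2]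
    simp [Subrepresentation.toRepresentation]

end Cfsg.Agent.Lib.Characters.Complete
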