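import Cfsg.Agent.Lib.Characters.Basic
import Cfsg.Agent.Lib.Induced.Integral

/-!
# The degree of an irreducible character divides the group order
-/

namespace Cfsg.Agent.Lib.Characters.Degree

open Module Representation
open scoped ComplexConjugate
open Cfsg.Agent.Lib.Induced.Basic Cfsg.Agent.Lib.Characters.Basic

universe u v

variable {G : Type u} [Group G] [Finite G]

theorem isIntegral_conj {z : ℂ} (h : IsIntegral ℤ z) : IsIntegral ℤ (conj z) :=
  h.map ((starRingEnd ℂ).toIntAlgHom)

/-- The degree of an irreducible representation divides the order of the group. -/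
theorem finrank_dvd_card {V : Type v} [AddCommGroup V] [Module ℂ V] [FiniteDimensional ℂ V]
    (ρ : Representation ℂ G V) [ρ.IsIrreducible] : finrank ℂ V ∣ Nat.card G := by
  classical
  have := Fintype.ofFinite G
  have : Finite (ConjClasses G) := Finite.of_surjective _ ConjClasses.mk_surjective
  have := Fintype.ofFinite (ConjClasses G)
  set n : ℕ := finrank ℂ V
  have hn : 0 < n := finrank_pos_of_isIrreducible ρ
  have hsum : ∑ g : G, ρ.character g * conj (ρ.character g) = (Nat.card G : ℂ) := by
    have h : Cfsg.classInner ρ.character ρ.character = 1 := classInner_self_irr (irrChar ρ)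
    rw [Cfsg.classInner, inv_mul_eq_one₀ natCard_ne_zero] at h
    exact h.symm
  have hint : IsIntegral ℤ ((Nat.card G : ℂ) / n) := by
    rw [← hsum, ← Finset.sum_fiberwise Finset.univ (ConjClasses.mk : G → ConjClasses G),
      Finset.sum_div]
    refine IsIntegral.sum _ fun c _ => ?_
    obtain ⟨x, rfl⟩ := ConjClasses.mk_surjective c
    have hval : ∀ g ∈ Finset.univ.filter (fun g : G => ConjClasses.mk g = ConjClasses.mk x),
        ρ.character g * conj (ρ.character g) = ρ.character x * conj (ρ.character x) := by
      intro g hg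
      rw [Finset.mem_filter] at hg
      rw [classFunction_apply_of_isConj (isClassFunction_character ρ)
        (ConjClasses.mk_eq_mk_iff_isConj.mp hg.2)]
    rw [Finset.sum_congr rfl hval, Finset.sum_const, nsmul_eq_mul]
    have hcard : (Finset.univ.filter (fun g : G => ConjClasses.mk g = ConjClasses.mk x)).card =
        (Subgroup.centralizer ({x} : Set G)).index := by
      rw [← Cfsg.Agent.Lib.Induced.Integral.nat_card_carrier, Nat.card_eq_fintype_card,
        ← Set.toFinset_card]
      congr 1
      ext g
      simp [ConjClasses.mem_carrier_iff_mk_eq]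
    rw [hcard, ← mul_assoc, mul_div_right_comm]
    exact (Cfsg.Agent.Lib.Induced.Integral.isIntegral_centralCharacter ρ x).mul
      (isIntegral_conj (Diag.isIntegral_char ρ x))
  have hq : IsIntegral ℤ ((Nat.card G : ℚ) / n) := by
    refine (isIntegral_algHom_iff ((algebraMap ℚ ℂ).toIntAlgHom)
      (algebraMap ℚ ℂ).injective).mp ?_
    simpa using hint
  obtain ⟨m, hm⟩ := IsIntegrallyClosed.isIntegral_iff.mp hq
  have : (m : ℚ) * n = (Nat.card G : ℚ) := by
    rw [eq_intCast] at hm
    rw [hm, div_mul_cancel₀ _ (Nat.cast_ne_zero.mpr hn.ne')]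
  exact Int.natCast_dvd_natCast.mp ⟨m, by rw [mul_comm]; exact_mod_cast this.symm⟩

/-- The degree of an irreducible character is a natural divisor of the group order. -/
theorem exists_degree_dvd (χ : Cfsg.IrrCharacter G) :
    ∃ d : ℕ, 0 < d ∧ d ∣ Nat.card G ∧ (χ : G → ℂ) 1 = d := by
  obtain ⟨n, ρ, hρ, h⟩ := exists_rep χ
  exact ⟨_, finrank_pos_of_isIrreducible ρ, finrank_dvd_card ρ, by rw [← h, char_one]⟩

end Cfsg.Agent.Lib.Characters.Degree
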