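import Cfsg.Agent.Lib.Characters.Complete
import Mathlib.GroupTheory.QuotientGroup.Basic

/-!
# Kernels of characters and inflation
-/

namespace Cfsg.Agent.Lib.Characters.Kernel

open Module Representation
open scoped ComplexConjugate
open Cfsg.Agent.Lib.Induced.Basic Cfsg.Agent.Lib.Characters.Basic
open Cfsg.Agent.Lib.Characters.Complete

universe u v

variable {G : Type u} [Group G] [Finite G]

theorem rep_eq_one_iff {V : Type v} [AddCommGroup V] [Module ℂ V] [FiniteDimensional ℂ V]
    (ρ : Representation ℂ G V) (g : G) : ρ g = 1 ↔ ρ.character g = ρ.character 1 := by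
  rw [char_one, Diag.char_eq_finrank_iff, Module.End.one_eq_id]

theorem apply_mul_of_apply_eq_one {χ : G → ℂ} (h : Cfsg.IsCharacter G χ) {g : G}
    (hg : χ g = χ 1) (x : G) : χ (g * x) = χ x ∧ χ (x * g) = χ x := by
  obtain ⟨n, ρ, rfl⟩ := h
  have h1 := (rep_eq_one_iff ρ g).mpr hg
  exact ⟨by simp [Representation.character, map_mul, h1],
    by simp [Representation.character, map_mul, h1]⟩

/-- The kernel of a character. -/
def charKer {χ : G → ℂ} (h : Cfsg.IsCharacter G χ) : Subgroup G where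
  carrier := {g | χ g = χ 1}
  one_mem' := rfl
  mul_mem' {a b} ha hb := by
    show χ (a * b) = χ 1
    rw [(apply_mul_of_apply_eq_one h ha b).1]
    exact hb
  inv_mem' {a} ha := by
    show χ a⁻¹ = χ 1
    rw [apply_inv h, show χ a = χ 1 from ha, conj_apply_one h]

theorem mem_charKer {χ : G → ℂ} (h : Cfsg.IsCharacter G χ) (g : G) :
    g ∈ charKer h ↔ χ g = χ 1 := Iff.rfl

theorem charKer_normal {χ : G → ℂ} (h : Cfsg.IsCharacter G χ) : (charKer h).Normal :=
  ⟨fun g hg c => by
    show χ (c * g * c⁻¹) = χ 1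
    rw [isClassFunction_of_isCharacter h g c]
    exact hg⟩

/-- The intersection of the kernels of all irreducible characters is trivial. -/
theorem iInf_charKer : (⨅ χ : Cfsg.IrrCharacter G, charKer (isCharacter_irr χ)) = ⊥ :=
  (Subgroup.eq_bot_iff_forall _).mpr fun _ hg =>
    eq_one_of_forall_irr fun χ => Subgroup.mem_iInf.mp hg χ

/-- A nontrivial element is outside the kernel of some irreducible character. -/
theorem exists_apply_ne_degree {g : G} (hg : g ≠ 1) :
    ∃ χ : Cfsg.IrrCharacter G, (χ : G → ℂ) g ≠ (χ : G → ℂ) 1 := by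
  by_contra h
  push Not at h
  exact hg (eq_one_of_forall_irr h)

/-- In a simple group a character that is not a multiple of the trivial one is faithful. -/
theorem charKer_eq_bot_of_simple [IsSimpleGroup G] {χ : G → ℂ} (h : Cfsg.IsCharacter G χ)
    {g : G} (hg : χ g ≠ χ 1) : charKer h = ⊥ := by
  refine ((charKer_normal h).eq_bot_or_eq_top).resolve_right fun htop => hg ?_
  exact (mem_charKer h g).mp (htop ▸ Subgroup.mem_top g)

variable (N : Subgroup G) [N.Normal]

/-- A character whose kernel contains `N` descends to the quotient. -/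
theorem exists_descend {χ : G → ℂ} (h : Cfsg.IsCharacter G χ) (hN : ∀ g ∈ N, χ g = χ 1) :
    ∃ φ : G ⧸ N → ℂ, Cfsg.IsCharacter (G ⧸ N) φ ∧ φ ∘ (QuotientGroup.mk' N) = χ ∧
      (Cfsg.IsIrrCharacter G χ → Cfsg.IsIrrCharacter (G ⧸ N) φ) := by
  obtain ⟨n, ρ, rfl⟩ := h
  let σ : Representation ℂ (G ⧸ N) (Fin n → ℂ) :=
    QuotientGroup.lift N ρ fun g hg => (rep_eq_one_iff ρ g).mpr (hN g hg)
  refine ⟨σ.character, ⟨n, σ, rfl⟩, funext fun g => rfl, fun hirr => ?_⟩
  have := Fintype.ofFinite G
  have : ρ.IsIrreducible := by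
    rw [isIrreducible_iff_classInner_self]
    exact classInner_self_irr ⟨_, hirr⟩
  let F : Subrepresentation σ ≃o Subrepresentation ρ :=
    { toFun := fun p => ⟨p.toSubmodule, fun g _ hv => p.apply_mem_toSubmodule (g : G ⧸ N) hv⟩
      invFun := fun q => ⟨q.toSubmodule, fun g v hv => by
        induction g using QuotientGroup.induction_on with
        | _ g => exact q.apply_mem_toSubmodule g hv⟩
      left_inv := fun _ => rfl
      right_inv := fun _ => rfl
      map_rel_iff' := Iff.rfl }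
  exact ⟨n, σ, F.isSimpleOrder_iff.mpr this, rfl⟩

/-- Inflation of irreducible characters from a quotient. -/
noncomputable def inflateEquiv :
    Cfsg.IrrCharacter (G ⧸ N) ≃
      {χ : Cfsg.IrrCharacter G // ∀ g ∈ N, (χ : G → ℂ) g = (χ : G → ℂ) 1} :=
  _root_.Equiv.ofBijective
    (fun φ => ⟨⟨(φ : G ⧸ N → ℂ) ∘ QuotientGroup.mk' N,
      isIrrCharacter_comp _ (QuotientGroup.mk'_surjective N) φ.2⟩, fun g hg => by
        show (φ : G ⧸ N → ℂ) (QuotientGroup.mk' N g) = (φ : G ⧸ N → ℂ) (QuotientGroup.mk' N 1)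
        rw [map_one, show QuotientGroup.mk' N g = 1 from (QuotientGroup.eq_one_iff g).mpr hg]⟩)
    ⟨fun a b h => Subtype.ext ((QuotientGroup.mk'_surjective N).injective_comp_right
      (congrArg (fun x => (x.1 : G → ℂ)) h)),
    fun χ => by
      obtain ⟨φ, -, hφ, hirr⟩ := exists_descend N (isCharacter_irr χ.1) χ.2
      exact ⟨⟨φ, hirr χ.1.2⟩, Subtype.ext (Subtype.ext hφ)⟩⟩

theorem inflateEquiv_apply (φ : Cfsg.IrrCharacter (G ⧸ N)) (g : G) :
    ((inflateEquiv N φ).1 : G → ℂ) g = (φ : G ⧸ N → ℂ) (g : G ⧸ N) := rfl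

end Cfsg.Agent.Lib.Characters.Kernel
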