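import Cfsg.Agent.Lib.Characters.Complete
import Mathlib.GroupTheory.Abelianization.Finite
import Mathlib.GroupTheory.FiniteAbelian.Duality
import Mathlib.RingTheory.RootsOfUnity.AlgebraicallyClosed

/-!
# Linear characters, duals, abelian groups
-/

namespace Cfsg.Agent.Lib.Characters.Linear

open Module Representation
open scoped ComplexConjugate
open Cfsg.Agent.Lib.Induced.Basic Cfsg.Agent.Lib.Characters.Basic
open Cfsg.Agent.Lib.Characters.Complete

universe u

variable {G : Type u} [Group G]

/-- The representation of a homomorphism to `ℂˣ`. -/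
noncomputable def homRep (lam : G →* ℂˣ) : Representation ℂ G (Fin 1 → ℂ) :=
  (algebraMap ℂ (Module.End ℂ (Fin 1 → ℂ))).toMonoidHom.comp ((Units.coeHom ℂ).comp lam)

theorem char_homRep (lam : G →* ℂˣ) (g : G) : (homRep lam).character g = (lam g : ℂ) := by
  show LinearMap.trace ℂ _ (algebraMap ℂ (Module.End ℂ (Fin 1 → ℂ)) (lam g : ℂ)) = _
  rw [Algebra.algebraMap_eq_smul_one, map_smul, LinearMap.trace_one]
  simp

/-- The irreducible character of a homomorphism to `ℂˣ`. -/
noncomputable def linChar (lam : G →* ℂˣ) : Cfsg.IrrCharacter G :=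
  ⟨fun g => (lam g : ℂ), isIrrCharacter_of_degree_one
    ⟨1, homRep lam, funext fun g => char_homRep lam g⟩ (by simp)⟩

theorem linChar_apply (lam : G →* ℂˣ) (g : G) : (linChar lam : G → ℂ) g = (lam g : ℂ) := rfl

theorem linChar_injective : Function.Injective (linChar (G := G)) := fun a b h =>
  MonoidHom.ext fun g => Units.ext (congrFun (congrArg Subtype.val h) g)

/-- A character of degree one is multiplicative. -/
theorem apply_mul_of_degree_one {χ : G → ℂ} (h : Cfsg.IsCharacter G χ) (h1 : χ 1 = 1) (a b : G) :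
    χ (a * b) = χ a * χ b := by
  obtain ⟨n, ρ, rfl⟩ := h
  have hn : finrank ℂ (Fin n → ℂ) = 1 := by
    rw [char_one, Nat.cast_eq_one] at h1
    exact h1
  have key : ∀ f : Module.End ℂ (Fin n → ℂ), f = LinearMap.trace ℂ _ f • 1 := by
    intro f
    obtain ⟨v, hv, hv'⟩ := finrank_eq_one_iff'.mp hn
    obtain ⟨c, hc⟩ := hv' (f v)
    have hf : f = c • 1 := LinearMap.ext fun x => by
      obtain ⟨d, rfl⟩ := hv' x
      rw [map_smul, ← hc, LinearMap.smul_apply, Module.End.one_apply, smul_comm]
    rw [hf, map_smul, LinearMap.trace_one, hn]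
    simp
  show LinearMap.trace ℂ _ (ρ (a * b)) = _
  conv_lhs => rw [map_mul, key (ρ a), smul_one_mul, map_smul]
  rfl

/-- The homomorphism of a character of degree one. -/
noncomputable def degOneHom {χ : G → ℂ} (h : Cfsg.IsCharacter G χ) (h1 : χ 1 = 1) : G →* ℂˣ :=
  MonoidHom.toHomUnits
    { toFun := χ, map_one' := h1, map_mul' := apply_mul_of_degree_one h h1 }

theorem degOneHom_apply {χ : G → ℂ} (h : Cfsg.IsCharacter G χ) (h1 : χ 1 = 1) (g : G) :
    (degOneHom h h1 g : ℂ) = χ g := rfl

/-- Linear characters correspond to homomorphisms to `ℂˣ`. -/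
noncomputable def linEquiv (G : Type u) [Group G] :
    (G →* ℂˣ) ≃ {χ : Cfsg.IrrCharacter G // (χ : G → ℂ) 1 = 1} where
  toFun lam := ⟨linChar lam, by simp [linChar_apply]⟩
  invFun χ := degOneHom (isCharacter_irr χ.1) χ.2
  left_inv _ := MonoidHom.ext fun _ => Units.ext rfl
  right_inv _ := Subtype.ext (Subtype.ext rfl)

/-- The number of linear characters is the index of the derived subgroup. -/
theorem card_linear [Finite G] :
    Nat.card {χ : Cfsg.IrrCharacter G // (χ : G → ℂ) 1 = 1} = (commutator G).index := by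
  rw [← Nat.card_congr (linEquiv G), Nat.card_congr (Abelianization.lift (G := G) (A := ℂˣ))]
  exact CommGroup.card_monoidHom_of_hasEnoughRootsOfUnity (Abelianization G) ℂ

/-- The product with a linear character of an irreducible character is irreducible. -/
theorem isIrrCharacter_linear_mul [Finite G] {lam χ : G → ℂ} (hl : Cfsg.IsCharacter G lam)
    (hl1 : lam 1 = 1) (hχ : Cfsg.IsIrrCharacter G χ) : Cfsg.IsIrrCharacter G (lam * χ) := by
  have := Fintype.ofFinite G
  refine isIrrCharacter_of_classInner_self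
    (isCharacter_mul hl (IsCharacter_of_isIrrCharacter hχ)) ?_
  rw [← classInner_self_irr ⟨χ, hχ⟩]
  simp only [Cfsg.classInner, Pi.mul_apply, map_mul]
  congr 1
  refine Finset.sum_congr rfl fun g _ => ?_
  have h1 : lam g * conj (lam g) = 1 := by
    rw [← apply_inv hl, ← apply_mul_of_degree_one hl hl1, mul_inv_cancel, hl1]
  linear_combination (χ g * conj (χ g)) * h1

/-- The complex conjugate of an irreducible character is irreducible. -/
theorem isIrrCharacter_conj [Finite G] {χ : G → ℂ} (hχ : Cfsg.IsIrrCharacter G χ) :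
    Cfsg.IsIrrCharacter G (fun g => conj (χ g)) := by
  have := Fintype.ofFinite G
  refine isIrrCharacter_of_classInner_self
    (isCharacter_conj (IsCharacter_of_isIrrCharacter hχ)) ?_
  rw [← classInner_self_irr ⟨χ, hχ⟩]
  simp only [Cfsg.classInner, Complex.conj_conj, mul_comm]

/-- The conjugate irreducible character. -/
noncomputable def conjChar [Finite G] (χ : Cfsg.IrrCharacter G) : Cfsg.IrrCharacter G :=
  ⟨_, isIrrCharacter_conj χ.2⟩

theorem conjChar_apply [Finite G] (χ : Cfsg.IrrCharacter G) (g : G) :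
    (conjChar χ : G → ℂ) g = conj ((χ : G → ℂ) g) := rfl

theorem conjChar_conjChar [Finite G] (χ : Cfsg.IrrCharacter G) : conjChar (conjChar χ) = χ :=
  Subtype.ext (funext fun g => by rw [conjChar_apply, conjChar_apply, Complex.conj_conj])

/-- All irreducible characters of an abelian group are linear. -/
theorem degree_eq_one_of_comm [Finite G] (hcomm : ∀ a b : G, a * b = b * a)
    (χ : Cfsg.IrrCharacter G) : (χ : G → ℂ) 1 = 1 := by
  obtain ⟨n, ρ, hρ, h⟩ := exists_rep χ
  have : IsMulCommutative G := ⟨⟨hcomm⟩⟩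
  rw [← h, char_one, IsIrreducible.finrank_eq_one_of_isMulCommutative ρ, Nat.cast_one]

end Cfsg.Agent.Lib.Characters.Linear
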