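import Cfsg.Prelude.Def_Characters
import Cfsg.Agent.Lib.Characters.Diag
import Cfsg.Agent.Lib.Induced.Basic
import Mathlib.RepresentationTheory.Maschke
import Mathlib.LinearAlgebra.Projection

/-!
# Bridge between `Cfsg.IsCharacter`, `Cfsg.IsIrrCharacter` and representation theory

* characters of arbitrary finite-dimensional representations, closure properties;
* Maschke decomposition, first orthogonality relation for `Cfsg.classInner`;
* linear independence and finiteness of `Cfsg.IrrCharacter G`.
-/

namespace Cfsg.Agent.Lib.Characters.Basic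

open Module Representation
open scoped ComplexConjugate
open Cfsg.Agent.Lib.Induced.Basic

universe u v w

variable {G : Type u} [Group G]

/-! ## Transport to coordinate space -/

/-- Every finite-dimensional representation is equivalent to one on a coordinate space. -/
theorem exists_fin_equiv {V : Type v} [AddCommGroup V] [Module ℂ V] [FiniteDimensional ℂ V]
    (ρ : Representation ℂ G V) :
    ∃ σ : Representation ℂ G (Fin (finrank ℂ V) → ℂ), Nonempty (ρ.Equiv σ) := by
  let e : V ≃ₗ[ℂ] (Fin (finrank ℂ V) → ℂ) := (Module.finBasis ℂ V).equivFun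
  let σ : Representation ℂ G (Fin (finrank ℂ V) → ℂ) :=
    { toFun := fun g => e.conj (ρ g)
      map_one' := by ext v; simp [LinearEquiv.conj_apply]
      map_mul' := fun g g' => by ext v; simp [LinearEquiv.conj_apply] }
  refine ⟨σ, ⟨Representation.Equiv.mk e fun g => LinearMap.ext fun x => ?_⟩⟩
  simp [σ, LinearEquiv.conj_apply]

/-- Irreducibility is preserved by equivalence. -/
theorem isIrreducible_of_equiv {V : Type v} [AddCommGroup V] [Module ℂ V]
    {W : Type w} [AddCommGroup W] [Module ℂ W] {ρ : Representation ℂ G V}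
    {σ : Representation ℂ G W} (φ : ρ.Equiv σ) (h : ρ.IsIrreducible) : σ.IsIrreducible := by
  have hint : ∀ g v, φ.toLinearEquiv (ρ g v) = σ g (φ.toLinearEquiv v) := fun g v =>
    congrArg (fun f : V →ₗ[ℂ] W => f v) (φ.toIntertwiningMap.isIntertwining' g)
  let F : Subrepresentation ρ ≃o Subrepresentation σ :=
    { toFun := fun p =>
        { toSubmodule := p.toSubmodule.map φ.toLinearEquiv.toLinearMap
          apply_mem_toSubmodule := by
            rintro g _ ⟨v, hv, rfl⟩
            exact ⟨ρ g v, p.apply_mem_toSubmodule g hv, hint g v⟩ }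
      invFun := fun q =>
        { toSubmodule := q.toSubmodule.comap φ.toLinearEquiv.toLinearMap
          apply_mem_toSubmodule := by
            intro g v hv
            show φ.toLinearEquiv (ρ g v) ∈ q.toSubmodule
            rw [hint]
            exact q.apply_mem_toSubmodule g hv }
      left_inv := fun p => Subrepresentation.toSubmodule_injective
        (Submodule.comap_map_eq_of_injective φ.toLinearEquiv.injective _)
      right_inv := fun q => Subrepresentation.toSubmodule_injective
        (Submodule.map_comap_eq_of_surjective φ.toLinearEquiv.surjective _)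
      map_rel_iff' := fun {p q} => Submodule.map_le_map_iff_of_injective
        φ.toLinearEquiv.injective p.toSubmodule q.toSubmodule }
  exact F.isSimpleOrder_iff.mp h

/-- A representation on a trivial space is not irreducible. -/
theorem finrank_pos_of_isIrreducible {V : Type v} [AddCommGroup V] [Module ℂ V]
    [FiniteDimensional ℂ V] (ρ : Representation ℂ G V) [h : ρ.IsIrreducible] :
    0 < finrank ℂ V := by
  by_contra h0
  have hs : Subsingleton V := Module.finrank_zero_iff.mp (Nat.eq_zero_of_not_pos h0)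
  obtain ⟨p, q, hpq⟩ := exists_pair_ne (Subrepresentation ρ)
  exact hpq (Subrepresentation.toSubmodule_injective (Subsingleton.elim _ _))

/-- The character of any finite-dimensional representation is a character. -/
theorem isCharacter_character {V : Type v} [AddCommGroup V] [Module ℂ V] [FiniteDimensional ℂ V]
    (ρ : Representation ℂ G V) : Cfsg.IsCharacter G ρ.character := by
  obtain ⟨σ, ⟨φ⟩⟩ := exists_fin_equiv ρ
  exact ⟨_, σ, (char_iso φ).symm⟩

/-- The character of any irreducible finite-dimensional representation is irreducible. -/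
theorem isIrrCharacter_character {V : Type v} [AddCommGroup V] [Module ℂ V]
    [FiniteDimensional ℂ V] (ρ : Representation ℂ G V) [h : ρ.IsIrreducible] :
    Cfsg.IsIrrCharacter G ρ.character := by
  obtain ⟨σ, ⟨φ⟩⟩ := exists_fin_equiv ρ
  exact ⟨_, σ, isIrreducible_of_equiv φ h, (char_iso φ).symm⟩

/-- The irreducible character of an irreducible representation. -/
noncomputable def irrChar {V : Type v} [AddCommGroup V] [Module ℂ V] [FiniteDimensional ℂ V]
    (ρ : Representation ℂ G V) [ρ.IsIrreducible] : Cfsg.IrrCharacter G :=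
  ⟨ρ.character, isIrrCharacter_character ρ⟩

theorem coe_irrChar {V : Type v} [AddCommGroup V] [Module ℂ V] [FiniteDimensional ℂ V]
    (ρ : Representation ℂ G V) [ρ.IsIrreducible] : (irrChar ρ : G → ℂ) = ρ.character := rfl

/-- A representation affording an irreducible character. -/
theorem exists_rep (χ : Cfsg.IrrCharacter G) :
    ∃ (n : ℕ) (ρ : Representation ℂ G (Fin n → ℂ)),
      ρ.IsIrreducible ∧ ρ.character = (χ : G → ℂ) := χ.2

theorem IsCharacter_of_isIrrCharacter {χ : G → ℂ} (h : Cfsg.IsIrrCharacter G χ) :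
    Cfsg.IsCharacter G χ :=
  let ⟨n, ρ, _, h2⟩ := h
  ⟨n, ρ, h2⟩

theorem isCharacter_irr (χ : Cfsg.IrrCharacter G) : Cfsg.IsCharacter G (χ : G → ℂ) :=
  IsCharacter_of_isIrrCharacter χ.2

/-! ## Elementary properties of characters -/

theorem isClassFunction_character {V : Type v} [AddCommGroup V] [Module ℂ V]
    [FiniteDimensional ℂ V] (ρ : Representation ℂ G V) : Cfsg.IsClassFunction G ρ.character :=
  fun g h => char_conj ρ g h

theorem isClassFunction_of_isCharacter {χ : G → ℂ} (h : Cfsg.IsCharacter G χ) :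
    Cfsg.IsClassFunction G χ := by
  obtain ⟨n, ρ, rfl⟩ := h
  exact isClassFunction_character ρ

theorem isClassFunction_irr (χ : Cfsg.IrrCharacter G) :
    Cfsg.IsClassFunction G (χ : G → ℂ) := isClassFunction_of_isCharacter (isCharacter_irr χ)

theorem classFunction_apply_of_isConj {θ : G → ℂ} (hθ : Cfsg.IsClassFunction G θ) {g h : G}
    (hgh : IsConj g h) : θ g = θ h := by
  obtain ⟨c, rfl⟩ := isConj_iff.mp hgh
  exact (hθ g c).symm

theorem isCharacter_zero : Cfsg.IsCharacter G (0 : G → ℂ) := by
  refine ⟨0, 1, funext fun g => ?_⟩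
  rw [Representation.character, Pi.zero_apply,
    Subsingleton.elim ((1 : Representation ℂ G (Fin 0 → ℂ)) g) 0, map_zero]

theorem isCharacter_add {χ ψ : G → ℂ} (h : Cfsg.IsCharacter G χ) (h' : Cfsg.IsCharacter G ψ) :
    Cfsg.IsCharacter G (χ + ψ) := by
  obtain ⟨n, ρ, rfl⟩ := h
  obtain ⟨m, σ, rfl⟩ := h'
  convert isCharacter_character (ρ.prod σ) using 1
  funext g
  exact (LinearMap.trace_prodMap' (ρ g) (σ g)).symm

theorem isCharacter_sum {ι : Type*} (s : Finset ι) {f : ι → G → ℂ}
    (h : ∀ i ∈ s, Cfsg.IsCharacter G (f i)) : Cfsg.IsCharacter G (∑ i ∈ s, f i) :=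
  Finset.sum_induction f _ (fun _ _ => isCharacter_add) isCharacter_zero h

theorem isCharacter_nsmul {χ : G → ℂ} (h : Cfsg.IsCharacter G χ) (k : ℕ) :
    Cfsg.IsCharacter G (k • χ) := by
  induction k with
  | zero => rw [zero_smul]; exact isCharacter_zero
  | succ k ih => rw [succ_nsmul]; exact isCharacter_add ih h

theorem isCharacter_mul {χ ψ : G → ℂ} (h : Cfsg.IsCharacter G χ) (h' : Cfsg.IsCharacter G ψ) :
    Cfsg.IsCharacter G (χ * ψ) := by
  obtain ⟨n, ρ, rfl⟩ := h
  obtain ⟨m, σ, rfl⟩ := h'
  rw [← char_tensor]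
  exact isCharacter_character _

theorem isCharacter_comp {H : Type v} [Group H] (f : H →* G) {χ : G → ℂ}
    (h : Cfsg.IsCharacter G χ) : Cfsg.IsCharacter H (χ ∘ f) := by
  obtain ⟨n, ρ, rfl⟩ := h
  exact ⟨n, ρ.comp f, rfl⟩

theorem isIrrCharacter_comp {H : Type v} [Group H] (f : H →* G) (hf : Function.Surjective f)
    {χ : G → ℂ} (h : Cfsg.IsIrrCharacter G χ) : Cfsg.IsIrrCharacter H (χ ∘ f) := by
  obtain ⟨n, ρ, hρ, rfl⟩ := h
  refine ⟨n, ρ.comp f, ?_, rfl⟩
  let F : Subrepresentation ρ ≃o Subrepresentation (ρ.comp f) :=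
    { toFun := fun p => ⟨p.toSubmodule, fun g _ hv => p.apply_mem_toSubmodule (f g) hv⟩
      invFun := fun q => ⟨q.toSubmodule, fun g v hv => by
        obtain ⟨k, rfl⟩ := hf g
        exact q.apply_mem_toSubmodule k hv⟩
      left_inv := fun _ => rfl
      right_inv := fun _ => rfl
      map_rel_iff' := Iff.rfl }
  exact F.isSimpleOrder_iff.mp hρ

theorem isCharacter_one : Cfsg.IsCharacter G (1 : G → ℂ) := by
  refine ⟨1, 1, funext fun g => ?_⟩
  simp [Representation.character]

/-- Any one-dimensional representation is irreducible. -/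
theorem isIrreducible_of_finrank_eq_one {V : Type v} [AddCommGroup V] [Module ℂ V]
    [FiniteDimensional ℂ V] (ρ : Representation ℂ G V) (h : finrank ℂ V = 1) :
    ρ.IsIrreducible := by
  have hso : IsSimpleOrder (Submodule ℂ V) := is_simple_module_of_finrank_eq_one h
  have : Nontrivial (Subrepresentation ρ) :=
    ⟨⊥, ⊤, fun hbt => (bot_ne_top : (⊥ : Submodule ℂ V) ≠ ⊤)
      (congrArg Subrepresentation.toSubmodule hbt)⟩
  refine ⟨fun p => ?_⟩
  rcases hso.eq_bot_or_eq_top p.toSubmodule with hp | hp
  · exact Or.inl (Subrepresentation.toSubmodule_injective hp)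
  · exact Or.inr (Subrepresentation.toSubmodule_injective hp)

/-- A character of degree one is irreducible. -/
theorem isIrrCharacter_of_degree_one {χ : G → ℂ} (h : Cfsg.IsCharacter G χ) (h1 : χ 1 = 1) :
    Cfsg.IsIrrCharacter G χ := by
  obtain ⟨n, ρ, rfl⟩ := h
  refine ⟨n, ρ, isIrreducible_of_finrank_eq_one ρ ?_, rfl⟩
  rw [char_one] at h1
  exact_mod_cast h1

/-- The trivial character. -/
def oneChar (G : Type u) [Group G] : Cfsg.IrrCharacter G :=
  ⟨fun _ => 1, isIrrCharacter_of_degree_one isCharacter_one rfl⟩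

theorem oneChar_apply (g : G) : (oneChar G : G → ℂ) g = 1 := rfl

/-- The degree of a character is a natural number. -/
theorem exists_degree {χ : G → ℂ} (h : Cfsg.IsCharacter G χ) : ∃ n : ℕ, χ 1 = n := by
  obtain ⟨n, ρ, rfl⟩ := h
  exact ⟨_, char_one ρ⟩

/-- The degree of an irreducible character is a positive natural number. -/
theorem exists_degree_pos (χ : Cfsg.IrrCharacter G) :
    ∃ n : ℕ, 0 < n ∧ (χ : G → ℂ) 1 = n := by
  obtain ⟨n, ρ, hρ, hχ⟩ := χ.2
  refine ⟨finrank ℂ (Fin n → ℂ), finrank_pos_of_isIrreducible ρ, ?_⟩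
  rw [← hχ, char_one]

theorem apply_one_ne_zero (χ : Cfsg.IrrCharacter G) : (χ : G → ℂ) 1 ≠ 0 := by
  obtain ⟨n, hn, h⟩ := exists_degree_pos χ
  rw [h]
  exact Nat.cast_ne_zero.mpr hn.ne'

theorem conj_apply_one {χ : G → ℂ} (h : Cfsg.IsCharacter G χ) : conj (χ 1) = χ 1 := by
  obtain ⟨n, hn⟩ := exists_degree h
  rw [hn, map_natCast]

section finiteGroup

variable [Finite G]

theorem apply_inv {χ : G → ℂ} (h : Cfsg.IsCharacter G χ) (g : G) : χ g⁻¹ = conj (χ g) := by
  obtain ⟨n, ρ, rfl⟩ := h
  exact Diag.char_inv_eq_conj ρ g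

theorem norm_apply_le {χ : G → ℂ} (h : Cfsg.IsCharacter G χ) (g : G) : ‖χ g‖ ≤ ‖χ 1‖ := by
  obtain ⟨n, ρ, rfl⟩ := h
  rw [char_one, Complex.norm_natCast]
  exact Diag.norm_char_le ρ g

theorem isIntegral_apply {χ : G → ℂ} (h : Cfsg.IsCharacter G χ) (g : G) :
    IsIntegral ℤ (χ g) := by
  obtain ⟨n, ρ, rfl⟩ := h
  exact Diag.isIntegral_char ρ g

theorem isCharacter_conj {χ : G → ℂ} (h : Cfsg.IsCharacter G χ) :
    Cfsg.IsCharacter G (fun g => conj (χ g)) := by
  obtain ⟨n, ρ, rfl⟩ := h
  convert isCharacter_character ρ.dual using 1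
  funext g
  rw [char_dual, Diag.char_inv_eq_conj]

end finiteGroup

/-! ## Sums of representations -/

/-- The character is additive along a decomposition into two subrepresentations. -/
theorem char_add_of_isCompl {V : Type v} [AddCommGroup V] [Module ℂ V] [FiniteDimensional ℂ V]
    (ρ : Representation ℂ G V) (p q : Subrepresentation ρ)
    (h : IsCompl p.toSubmodule q.toSubmodule) :
    ρ.character = p.toRepresentation.character + q.toRepresentation.character := by
  funext g
  let e := Submodule.prodEquivOfIsCompl _ _ h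
  have he : ρ g = e.conj ((p.toRepresentation g).prodMap (q.toRepresentation g)) := by
    refine LinearMap.ext fun x => ?_
    obtain ⟨y, rfl⟩ := e.surjective x
    rw [LinearEquiv.conj_apply, LinearMap.comp_apply, LinearMap.comp_apply,
      LinearEquiv.coe_coe, LinearEquiv.coe_coe, LinearEquiv.symm_apply_apply]
    rw [Submodule.coe_prodEquivOfIsCompl' _ _ h y, Submodule.coe_prodEquivOfIsCompl' _ _ h]
    simp [Subrepresentation.toRepresentation, map_add]
  rw [Representation.character, he, LinearMap.trace_conj', LinearMap.trace_prodMap']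
  rfl

/-- A representation is zero, irreducible or has two proper complementary
subrepresentations. -/
theorem rep_trichotomy [Finite G] {V : Type v} [AddCommGroup V] [Module ℂ V]
    [FiniteDimensional ℂ V] (ρ : Representation ℂ G V) :
    Subsingleton V ∨ ρ.IsIrreducible ∨ ∃ p q : Subrepresentation ρ,
      IsCompl p.toSubmodule q.toSubmodule ∧
      finrank ℂ p.toSubmodule < finrank ℂ V ∧ finrank ℂ q.toSubmodule < finrank ℂ V := by
  rcases subsingleton_or_nontrivial V with hV | hV
  · exact Or.inl hV
  by_cases hirr : ρ.IsIrreducible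
  · exact Or.inr (Or.inl hirr)
  have hnt : Nontrivial (Subrepresentation ρ) :=
    ⟨⊥, ⊤, fun hbt => (bot_ne_top : (⊥ : Submodule ℂ V) ≠ ⊤)
      (congrArg Subrepresentation.toSubmodule hbt)⟩
  obtain ⟨p, hp⟩ : ∃ p : Subrepresentation ρ, ¬ (p = ⊥ ∨ p = ⊤) := by
    by_contra hcon
    exact hirr ⟨fun p => not_not.mp fun h => hcon ⟨p, h⟩⟩
  rw [not_or] at hp
  have : NeZero (Nat.card G : ℂ) := ⟨Nat.cast_ne_zero.mpr Nat.card_pos.ne'⟩
  obtain ⟨q, hq⟩ := exists_isCompl p
  have hsub : IsCompl p.toSubmodule q.toSubmodule :=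
    ⟨disjoint_iff.mpr (congrArg Subrepresentation.toSubmodule hq.1.eq_bot),
      codisjoint_iff.mpr (congrArg Subrepresentation.toSubmodule hq.2.eq_top)⟩
  have hsum : finrank ℂ p.toSubmodule + finrank ℂ q.toSubmodule = finrank ℂ V :=
    Submodule.finrank_add_eq_of_isCompl hsub
  have hp0 : 0 < finrank ℂ p.toSubmodule := by
    refine Nat.pos_of_ne_zero fun h0 => hp.1 (Subrepresentation.toSubmodule_injective ?_)
    exact Submodule.finrank_eq_zero.mp h0
  have hpV : finrank ℂ p.toSubmodule < finrank ℂ V :=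
    Submodule.finrank_lt fun htop => hp.2 (Subrepresentation.toSubmodule_injective htop)
  exact Or.inr (Or.inr ⟨p, q, hsub, hpV, by omega⟩)

/-- Every character is a sum of irreducible characters. -/
theorem character_eq_multiset_sum [Finite G] : ∀ {V : Type v} [AddCommGroup V] [Module ℂ V]
    [FiniteDimensional ℂ V] (ρ : Representation ℂ G V),
    ∃ m : Multiset (Cfsg.IrrCharacter G),
      ρ.character = (m.map fun χ : Cfsg.IrrCharacter G => (χ : G → ℂ)).sum := by
  suffices H : ∀ (d : ℕ) {V : Type v} [AddCommGroup V] [Module ℂ V] [FiniteDimensional ℂ V]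
      (ρ : Representation ℂ G V), finrank ℂ V = d →
      ∃ m : Multiset (Cfsg.IrrCharacter G),
        ρ.character = (m.map fun χ : Cfsg.IrrCharacter G => (χ : G → ℂ)).sum from
    fun {_} _ _ _ ρ => H _ ρ rfl
  intro d
  induction d using Nat.strong_induction_on with
  | _ d ih =>
    intro V _ _ _ ρ hd
    rcases rep_trichotomy ρ with hV | hirr | ⟨p, q, hpq, hp, hq⟩
    · refine ⟨0, funext fun g => ?_⟩
      rw [Representation.character, Subsingleton.elim (ρ g) 0, map_zero]
      simp
    · refine ⟨{irrChar ρ}, ?_⟩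
      simp [coe_irrChar]
    · obtain ⟨m₁, h₁⟩ := ih _ (hd ▸ hp) p.toRepresentation rfl
      obtain ⟨m₂, h₂⟩ := ih _ (hd ▸ hq) q.toRepresentation rfl
      refine ⟨m₁ + m₂, ?_⟩
      rw [char_add_of_isCompl ρ p q hpq, h₁, h₂, Multiset.map_add, Multiset.sum_add]

theorem exists_multiset_sum [Finite G] {χ : G → ℂ} (h : Cfsg.IsCharacter G χ) :
    ∃ m : Multiset (Cfsg.IrrCharacter G), χ = (m.map fun ψ : Cfsg.IrrCharacter G => (ψ : G → ℂ)).sum := by
  obtain ⟨n, ρ, rfl⟩ := h
  exact character_eq_multiset_sum ρ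

/-- Induction principle for characters: sums of irreducible characters. -/
theorem character_induction [Finite G] {P : (G → ℂ) → Prop} (h0 : P 0)
    (hadd : ∀ (χ : Cfsg.IrrCharacter G) (ψ : G → ℂ), Cfsg.IsCharacter G ψ → P ψ →
      P ((χ : G → ℂ) + ψ)) {χ : G → ℂ} (h : Cfsg.IsCharacter G χ) : P χ := by
  obtain ⟨m, rfl⟩ := exists_multiset_sum h
  clear h
  suffices Cfsg.IsCharacter G (m.map fun ψ : Cfsg.IrrCharacter G => (ψ : G → ℂ)).sum ∧
      P (m.map fun ψ : Cfsg.IrrCharacter G => (ψ : G → ℂ)).sum from this.2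
  induction m using Multiset.induction with
  | empty => simpa using ⟨isCharacter_zero, h0⟩
  | cons a m ih =>
    rw [Multiset.map_cons, Multiset.sum_cons]
    exact ⟨isCharacter_add (isCharacter_irr a) ih.1, hadd a _ ih.1 ih.2⟩

/-! ## The inner product -/

section inner

variable [Fintype G]

theorem classInner_zero_left (φ : G → ℂ) : Cfsg.classInner 0 φ = 0 := by
  simp [Cfsg.classInner]

theorem classInner_zero_right (φ : G → ℂ) : Cfsg.classInner φ 0 = 0 := by
  simp [Cfsg.classInner]

theorem classInner_sum_left {ι : Type*} (s : Finset ι) (f : ι → G → ℂ) (ψ : G → ℂ) :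
    Cfsg.classInner (∑ i ∈ s, f i) ψ = ∑ i ∈ s, Cfsg.classInner (f i) ψ := by
  induction s using Finset.cons_induction with
  | empty => simp [classInner_zero_left]
  | cons a s ha ih => rw [Finset.sum_cons, Finset.sum_cons, classInner_add_left, ih]

theorem classInner_sum_right {ι : Type*} (s : Finset ι) (φ : G → ℂ) (f : ι → G → ℂ) :
    Cfsg.classInner φ (∑ i ∈ s, f i) = ∑ i ∈ s, Cfsg.classInner φ (f i) := by
  induction s using Finset.cons_induction with
  | empty => simp [classInner_zero_right]
  | cons a s ha ih => rw [Finset.sum_cons, Finset.sum_cons, classInner_add_right, ih]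

theorem classInner_character_eq_finrank {V : Type v} [AddCommGroup V] [Module ℂ V]
    [FiniteDimensional ℂ V] {W : Type w} [AddCommGroup W] [Module ℂ W] [FiniteDimensional ℂ W]
    (σ : Representation ℂ G W) (ρ : Representation ℂ G V) :
    Cfsg.classInner σ.character ρ.character = (finrank ℂ (IntertwiningMap ρ σ) : ℂ) := by
  have : Invertible (Nat.card G : ℂ) := invertibleOfNonzero natCard_ne_zero
  rw [← card_inv_mul_sum_char_mul_char_eq_finrank, Cfsg.classInner]
  simp_rw [Diag.char_inv_eq_conj]

/-- The inner product of two characters is a natural number. -/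
theorem exists_classInner_nat {χ ψ : G → ℂ} (h : Cfsg.IsCharacter G χ)
    (h' : Cfsg.IsCharacter G ψ) : ∃ k : ℕ, Cfsg.classInner χ ψ = k := by
  obtain ⟨n, σ, rfl⟩ := h
  obtain ⟨m, ρ, rfl⟩ := h'
  exact ⟨_, classInner_character_eq_finrank σ ρ⟩

theorem classInner_self_irr (χ : Cfsg.IrrCharacter G) :
    Cfsg.classInner (χ : G → ℂ) χ = 1 := by
  obtain ⟨n, ρ, hρ, h⟩ := exists_rep χ
  rw [← h, classInner_character_eq_finrank, IsIrreducible.finrank_intertwiningMap_self,
    Nat.cast_one]

theorem classInner_irr_of_ne {χ ψ : Cfsg.IrrCharacter G} (hne : χ ≠ ψ) :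
    Cfsg.classInner (χ : G → ℂ) ψ = 0 := by
  obtain ⟨n, σ, hσ, h⟩ := exists_rep χ
  obtain ⟨m, ρ, hρ, h'⟩ := exists_rep ψ
  have : IsEmpty (ρ.Equiv σ) := ⟨fun φ => hne (Subtype.ext (by rw [← h, ← h', char_iso φ]))⟩
  rw [← h, ← h', classInner_character_eq_finrank, finrank_zero_of_subsingleton, Nat.cast_zero]

open scoped Classical in
/-- First orthogonality relation. -/
theorem classInner_irr (χ ψ : Cfsg.IrrCharacter G) :
    Cfsg.classInner (χ : G → ℂ) ψ = if χ = ψ then 1 else 0 := by
  split_ifs with h
  · exact h ▸ classInner_self_irr χ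
  · exact classInner_irr_of_ne h

/-- A character of norm one is irreducible. -/
theorem isIrrCharacter_of_classInner_self {χ : G → ℂ} (h : Cfsg.IsCharacter G χ)
    (h1 : Cfsg.classInner χ χ = 1) : Cfsg.IsIrrCharacter G χ := by
  have key : ∀ {φ : G → ℂ}, Cfsg.IsCharacter G φ → φ = 0 ∨
      ∃ (a : Cfsg.IrrCharacter G) (ψ : G → ℂ) (k : ℕ), Cfsg.IsCharacter G ψ ∧
        φ = (a : G → ℂ) + ψ ∧ Cfsg.classInner φ φ = 1 + k + Cfsg.classInner ψ ψ := by
    intro φ hφ
    refine character_induction (P := fun φ : G → ℂ => φ = 0 ∨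
      ∃ (a : Cfsg.IrrCharacter G) (ψ : G → ℂ) (k : ℕ), Cfsg.IsCharacter G ψ ∧
        φ = (a : G → ℂ) + ψ ∧ Cfsg.classInner φ φ = 1 + k + Cfsg.classInner ψ ψ)
      (Or.inl rfl) ?_ hφ
    intro a ψ hψ _
    obtain ⟨k₁, hk₁⟩ := exists_classInner_nat (isCharacter_irr a) hψ
    obtain ⟨k₂, hk₂⟩ := exists_classInner_nat hψ (isCharacter_irr a)
    refine Or.inr ⟨a, ψ, k₁ + k₂, hψ, rfl, ?_⟩
    rw [classInner_add_left, classInner_add_right, classInner_add_right, classInner_self_irr,
      hk₁, hk₂]
    push_cast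
    ring
  rcases key h with rfl | ⟨a, ψ, k, hψ, rfl, heq⟩
  · rw [classInner_zero_left] at h1
    exact absurd h1 zero_ne_one
  rcases key hψ with rfl | ⟨b, ψ', k', hψ', -, heq'⟩
  · simpa using a.2
  · obtain ⟨j, hj⟩ := exists_classInner_nat hψ' hψ'
    rw [h1, heq', hj] at heq
    have : (1 : ℕ) = 1 + k + (1 + k' + j) := by exact_mod_cast heq
    omega

theorem isIrrCharacter_iff_classInner_self {χ : G → ℂ} (h : Cfsg.IsCharacter G χ) :
    Cfsg.IsIrrCharacter G χ ↔ Cfsg.classInner χ χ = 1 :=
  ⟨fun hi => classInner_self_irr ⟨χ, hi⟩, isIrrCharacter_of_classInner_self h⟩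

/-- A character of norm one is afforded only by irreducible representations. -/
theorem isIrreducible_iff_classInner_self {V : Type v} [AddCommGroup V] [Module ℂ V]
    [FiniteDimensional ℂ V] (ρ : Representation ℂ G V) :
    ρ.IsIrreducible ↔ Cfsg.classInner ρ.character ρ.character = 1 := by
  refine ⟨fun h => classInner_self_irr (irrChar ρ), fun h => ?_⟩
  rcases rep_trichotomy ρ with hV | hirr | ⟨p, q, hpq, hp, hq⟩
  · have : ρ.character = 0 := funext fun g => by
      rw [Representation.character, Subsingleton.elim (ρ g) 0, map_zero, Pi.zero_apply]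
    rw [this, classInner_zero_left] at h
    exact absurd h zero_ne_one
  · exact hirr
  · exfalso
    have hsum := Submodule.finrank_add_eq_of_isCompl hpq
    have hpos : ∀ r : Subrepresentation ρ, 0 < finrank ℂ r.toSubmodule →
        ∃ k : ℕ, 0 < k ∧
          Cfsg.classInner r.toRepresentation.character r.toRepresentation.character = k := by
      intro r hr
      refine ⟨_, ?_, classInner_character_eq_finrank _ _⟩
      have : Nontrivial r.toSubmodule := Module.finrank_pos_iff.mp hr
      rw [Module.finrank_pos_iff]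
      obtain ⟨x, hx⟩ := exists_ne (0 : r.toSubmodule)
      exact ⟨IntertwiningMap.id _, 0, fun h0 => hx (congrArg (fun f => f x) h0)⟩
    obtain ⟨a, ha, ha'⟩ := hpos p (by omega)
    obtain ⟨b, hb, hb'⟩ := hpos q (by omega)
    obtain ⟨c, hc⟩ := exists_classInner_nat (isCharacter_character p.toRepresentation)
      (isCharacter_character q.toRepresentation)
    obtain ⟨d, hd⟩ := exists_classInner_nat (isCharacter_character q.toRepresentation)
      (isCharacter_character p.toRepresentation)
    rw [char_add_of_isCompl ρ p q hpq, classInner_add_left, classInner_add_right,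
      classInner_add_right, ha', hb', hc, hd] at h
    have : a + c + (d + b) = 1 := by exact_mod_cast h
    omega

end inner

/-! ## Linear independence, finiteness, decomposition -/

theorem linearIndependent_irr [Finite G] :
    LinearIndependent ℂ (fun χ : Cfsg.IrrCharacter G => (χ : G → ℂ)) := by
  classical
  have := Fintype.ofFinite G
  rw [linearIndependent_iff']
  intro s c hc i hi
  have h := congrArg (fun φ => Cfsg.classInner φ (i : G → ℂ)) hc
  simp only [classInner_sum_left, classInner_smul_left, classInner_irr, classInner_zero_left,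
    mul_ite, mul_one, mul_zero, Finset.sum_ite_eq', hi, if_true] at h
  exact h

/-- There are finitely many irreducible characters. -/
instance irrCharacterFinite [Finite G] : Finite (Cfsg.IrrCharacter G) :=
  linearIndependent_irr.finite

theorem finsum_classInner_smul_irr [Fintype G] (χ : Cfsg.IrrCharacter G) :
    ∑ᶠ ψ : Cfsg.IrrCharacter G, Cfsg.classInner (χ : G → ℂ) ψ • (ψ : G → ℂ) = χ := by
  classical
  rw [finsum_eq_single _ χ fun ψ hψ => by rw [classInner_irr_of_ne (Ne.symm hψ), zero_smul],
    classInner_self_irr, one_smul]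

/-- A character is the combination of irreducible characters with inner product coefficients. -/
theorem character_eq_finsum [Fintype G] {χ : G → ℂ} (h : Cfsg.IsCharacter G χ) :
    χ = ∑ᶠ ψ : Cfsg.IrrCharacter G, Cfsg.classInner χ ψ • (ψ : G → ℂ) := by
  refine character_induction (P := fun φ : G → ℂ =>
    φ = ∑ᶠ ψ : Cfsg.IrrCharacter G, Cfsg.classInner φ ψ • (ψ : G → ℂ)) ?_ ?_ h
  · show (0 : G → ℂ) = _
    simp [classInner_zero_left]
  · intro a ψ _ ih
    show (a : G → ℂ) + ψ = _
    simp only [classInner_add_left, add_smul]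
    rw [finsum_add_distrib (Set.toFinite _) (Set.toFinite _), finsum_classInner_smul_irr, ← ih]

end Cfsg.Agent.Lib.Characters.Basic
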