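import Cfsg.Agent.Lib.Characters.Complete

/-!
# Generalized characters
-/

namespace Cfsg.Agent.Lib.Characters.Generalized

open scoped ComplexConjugate
open Cfsg.Agent.Lib.Induced.Basic Cfsg.Agent.Lib.Characters.Basic
open Cfsg.Agent.Lib.Characters.Complete

universe u v

variable {G : Type u} [Group G]

theorem of_isCharacter {χ : G → ℂ} (h : Cfsg.IsCharacter G χ) :
    Cfsg.IsGeneralizedCharacter G χ :=
  ⟨χ, 0, h, isCharacter_zero, (sub_zero χ).symm⟩

theorem zero : Cfsg.IsGeneralizedCharacter G (0 : G → ℂ) := of_isCharacter isCharacter_zero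

theorem add {a b : G → ℂ} (ha : Cfsg.IsGeneralizedCharacter G a)
    (hb : Cfsg.IsGeneralizedCharacter G b) : Cfsg.IsGeneralizedCharacter G (a + b) := by
  obtain ⟨χ, ψ, hχ, hψ, rfl⟩ := ha
  obtain ⟨χ', ψ', hχ', hψ', rfl⟩ := hb
  exact ⟨χ + χ', ψ + ψ', isCharacter_add hχ hχ', isCharacter_add hψ hψ', by abel⟩

theorem neg {a : G → ℂ} (ha : Cfsg.IsGeneralizedCharacter G a) :
    Cfsg.IsGeneralizedCharacter G (-a) := by
  obtain ⟨χ, ψ, hχ, hψ, rfl⟩ := ha
  exact ⟨ψ, χ, hψ, hχ, by abel⟩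

theorem sub {a b : G → ℂ} (ha : Cfsg.IsGeneralizedCharacter G a)
    (hb : Cfsg.IsGeneralizedCharacter G b) : Cfsg.IsGeneralizedCharacter G (a - b) :=
  sub_eq_add_neg a b ▸ add ha (neg hb)

theorem zsmul {a : G → ℂ} (ha : Cfsg.IsGeneralizedCharacter G a) (z : ℤ) :
    Cfsg.IsGeneralizedCharacter G (z • a) := by
  obtain ⟨χ, ψ, hχ, hψ, rfl⟩ := ha
  rcases Int.eq_nat_or_neg z with ⟨k, rfl | rfl⟩
  · exact ⟨k • χ, k • ψ, isCharacter_nsmul hχ k, isCharacter_nsmul hψ k,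
      by rw [natCast_zsmul, smul_sub]⟩
  · exact ⟨k • ψ, k • χ, isCharacter_nsmul hψ k, isCharacter_nsmul hχ k,
      by rw [neg_zsmul, natCast_zsmul, smul_sub, neg_sub]⟩

theorem sum {ι : Type*} (s : Finset ι) {f : ι → G → ℂ}
    (h : ∀ i ∈ s, Cfsg.IsGeneralizedCharacter G (f i)) :
    Cfsg.IsGeneralizedCharacter G (∑ i ∈ s, f i) :=
  Finset.sum_induction f _ (fun _ _ => add) zero h

theorem isClassFunction {a : G → ℂ} (ha : Cfsg.IsGeneralizedCharacter G a) :
    Cfsg.IsClassFunction G a := by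
  obtain ⟨χ, ψ, hχ, hψ, rfl⟩ := ha
  exact classFun_sub (isClassFunction_of_isCharacter hχ) (isClassFunction_of_isCharacter hψ)

theorem exists_classInner_int [Fintype G] {a b : G → ℂ} (ha : Cfsg.IsGeneralizedCharacter G a)
    (hb : Cfsg.IsGeneralizedCharacter G b) : ∃ z : ℤ, Cfsg.classInner a b = z := by
  obtain ⟨χ, ψ, hχ, hψ, rfl⟩ := ha
  obtain ⟨χ', ψ', hχ', hψ', rfl⟩ := hb
  obtain ⟨p, hp⟩ := exists_classInner_nat hχ hχ'
  obtain ⟨q, hq⟩ := exists_classInner_nat hχ hψ'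
  obtain ⟨r, hr⟩ := exists_classInner_nat hψ hχ'
  obtain ⟨s, hs⟩ := exists_classInner_nat hψ hψ'
  refine ⟨(p : ℤ) - q - ((r : ℤ) - s), ?_⟩
  rw [classInner_sub_left, classInner_sub_right, classInner_sub_right, hp, hq, hr, hs]
  push_cast
  ring

/-- A class function with integer Fourier coefficients is a generalized character. -/
theorem of_classInner_int [Fintype G] {a : G → ℂ} (ha : Cfsg.IsClassFunction G a)
    (h : ∀ χ : Cfsg.IrrCharacter G, ∃ z : ℤ, Cfsg.classInner a χ = z) :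
    Cfsg.IsGeneralizedCharacter G a := by
  classical
  have := Fintype.ofFinite (Cfsg.IrrCharacter G)
  rw [classFunction_eq_sum ha]
  refine sum _ fun χ _ => ?_
  obtain ⟨z, hz⟩ := h χ
  rw [hz, Int.cast_smul_eq_zsmul]
  exact zsmul (of_isCharacter (isCharacter_irr χ)) z

theorem iff_classInner_int [Fintype G] {a : G → ℂ} :
    Cfsg.IsGeneralizedCharacter G a ↔ Cfsg.IsClassFunction G a ∧
      ∀ χ : Cfsg.IrrCharacter G, ∃ z : ℤ, Cfsg.classInner a χ = z :=
  ⟨fun h => ⟨isClassFunction h,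
    fun χ => exists_classInner_int h (of_isCharacter (isCharacter_irr χ))⟩,
   fun h => of_classInner_int h.1 h.2⟩

end Cfsg.Agent.Lib.Characters.Generalized
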