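import Cfsg.Agent.Lib.Characters.Complete
import Cfsg.Agent.Lib.Characters.Linear
import Cfsg.Agent.Lib.Characters.Degree
import Mathlib.LinearAlgebra.Matrix.Kronecker
import Mathlib.LinearAlgebra.Trace
import Mathlib.LinearAlgebra.Projection

/-!
# The Frobenius-Schur indicator and real characters
-/

namespace Cfsg.Agent.Lib.Characters.Indicator

open Module Representation
open scoped ComplexConjugate Kronecker
open Cfsg.Agent.Lib.Induced.Basic Cfsg.Agent.Lib.Characters.Basic
open Cfsg.Agent.Lib.Characters.Complete Cfsg.Agent.Lib.Characters.Linear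

universe u v

/-- An idempotent of trace 0 vanishes; of trace 1 it is an outer product. -/
theorem rank_one_of_idempotent {ι : Type*} [Fintype ι] [DecidableEq ι] (P : Matrix ι ι ℂ)
    (hP : P * P = P) :
    (P.trace = 0 → P = 0) ∧ (P.trace = 1 → ∃ u v : ι → ℂ, ∀ a b, P a b = u a * v b) := by
  set f := Matrix.toLin' P
  have hproj : LinearMap.IsProj (LinearMap.range f) f := by
    refine ⟨fun x => ⟨x, rfl⟩, ?_⟩
    rintro _ ⟨y, rfl⟩
    show f (f y) = f y
    simp only [f, Matrix.toLin'_apply, Matrix.mulVec_mulVec, hP]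
  have htr : P.trace = (finrank ℂ (LinearMap.range f) : ℂ) := by
    rw [← hproj.trace, Matrix.trace_toLin'_eq]
  refine ⟨fun h0 => ?_, fun h1 => ?_⟩
  · rw [htr, Nat.cast_eq_zero, Submodule.finrank_eq_zero, LinearMap.range_eq_bot] at h0
    exact (LinearEquiv.map_eq_zero_iff _).mp h0
  · rw [htr, Nat.cast_eq_one] at h1
    obtain ⟨u, -, hu⟩ := finrank_eq_one_iff'.mp h1
    choose c hc using fun b : ι =>
      hu (⟨f (Pi.single b 1), ⟨_, rfl⟩⟩ : LinearMap.range f)
    refine ⟨(u : ι → ℂ), c, fun a b => ?_⟩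
    have h2 := congrFun (congrArg Subtype.val (hc b)) a
    simp [f] at h2
    rw [← h2, mul_comm]

/-- Trace against a commuting involution of a rank one idempotent is a sign. -/
theorem sum_apply_swap {ι : Type*} [Fintype ι] (P : Matrix ι ι ℂ) (s : ι → ι)
    (hs : ∀ a, s (s a) = a) (hsP : ∀ a b, P (s a) (s b) = P a b) (h1 : P.trace = 1)
    (u v : ι → ℂ) (huv : ∀ a b, P a b = u a * v b) :
    ∑ a, P a (s a) = 1 ∨ ∑ a, P a (s a) = -1 := by
  have htr : ∑ a, u a * v a = 1 := by
    rw [← h1, Matrix.trace]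
    exact Finset.sum_congr rfl fun a _ => (huv a a).symm
  obtain ⟨b, -, hb⟩ : ∃ b ∈ Finset.univ, u b * v b ≠ 0 :=
    Finset.exists_ne_zero_of_sum_ne_zero (by rw [htr]; exact one_ne_zero)
  have hub : u b ≠ 0 := left_ne_zero_of_mul hb
  have hvb : v b ≠ 0 := right_ne_zero_of_mul hb
  have hrel : ∀ a c, u (s a) * v (s c) = u a * v c := fun a c => by rw [← huv, ← huv, hsP]
  have hvsb : v (s b) ≠ 0 := right_ne_zero_of_mul (by rw [hrel]; exact hb)
  set c : ℂ := v b / v (s b) with hc
  have hu : ∀ a, u (s a) = c * u a := fun a => by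
    rw [hc, div_mul_eq_mul_div, eq_div_iff hvsb, hrel, mul_comm]
  have hc2 : c * c = 1 := by
    have := hu (s b)
    rw [hs, hu b, ← mul_assoc] at this
    exact (mul_eq_right₀ hub).mp this.symm
  have hv : ∀ a, v (s a) = c * v a := by
    intro a
    have h := hrel b a
    rw [hu b] at h
    have h' : c * v (s a) = v a := mul_left_cancel₀ hub (by linear_combination h)
    linear_combination c * h' - v (s a) * hc2
  have hsum : ∑ a, P a (s a) = c := by
    rw [← mul_one c, ← htr, Finset.mul_sum]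
    exact Finset.sum_congr rfl fun a _ => by rw [huv, hv]; ring
  rw [hsum]
  exact mul_self_eq_one_iff.mp hc2

variable {G : Type u} [Group G]

theorem conjChar_eq_self_iff [Finite G] (χ : Cfsg.IrrCharacter G) :
    conjChar χ = χ ↔ ∀ g, ((χ : G → ℂ) g).im = 0 := by
  refine ⟨fun h g => Complex.conj_eq_iff_im.mp (congrFun (congrArg Subtype.val h) g),
    fun h => Subtype.ext (funext fun g => ?_)⟩
  rw [conjChar_apply]
  exact Complex.conj_eq_iff_im.mpr (h g)

theorem exists_matrix_hom {n : ℕ} (ρ : Representation ℂ G (Fin n → ℂ)) :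
    ∃ M : G →* Matrix (Fin n) (Fin n) ℂ, ∀ g, ρ.character g = (M g).trace :=
  ⟨(LinearMap.toMatrixAlgEquiv' (R := ℂ) (n := Fin n)).toAlgHom.toMonoidHom.comp ρ,
    fun g => LinearMap.trace_eq_matrix_trace ℂ (Pi.basisFun ℂ (Fin n)) (ρ g)⟩

/-- Frobenius and Schur: the indicator is zero for non-real characters, a sign for real ones. -/
theorem indicator_spec [Fintype G] (χ : Cfsg.IrrCharacter G) :
    ((∀ g, ((χ : G → ℂ) g).im = 0) →
      (Nat.card G : ℂ)⁻¹ * ∑ s : G, (χ : G → ℂ) (s * s) = 1 ∨
        (Nat.card G : ℂ)⁻¹ * ∑ s : G, (χ : G → ℂ) (s * s) = -1) ∧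
    ((¬ ∀ g, ((χ : G → ℂ) g).im = 0) →
      (Nat.card G : ℂ)⁻¹ * ∑ s : G, (χ : G → ℂ) (s * s) = 0) := by
  classical
  obtain ⟨n, ρ, hρ, hχ⟩ := exists_rep χ
  obtain ⟨M, hM⟩ := exists_matrix_hom ρ
  rw [← hχ]
  set P : Matrix (Fin n × Fin n) (Fin n × Fin n) ℂ :=
    (Nat.card G : ℂ)⁻¹ • ∑ g : G, M g ⊗ₖ M g with hP
  have hmul : ∀ g : G, (M g ⊗ₖ M g) * ∑ h : G, M h ⊗ₖ M h = ∑ h : G, M h ⊗ₖ M h := by
    intro g
    rw [Finset.mul_sum]
    exact Fintype.sum_equiv (Equiv.mulLeft g) _ _ fun h => by
      simp [← Matrix.mul_kronecker_mul]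
  have hidem : P * P = P := by
    rw [hP, smul_mul_smul_comm, Finset.sum_mul, Finset.sum_congr rfl fun g _ => hmul g,
      Finset.sum_const, Finset.card_univ, ← Nat.cast_smul_eq_nsmul ℂ, smul_smul,
      Fintype.card_eq_nat_card, mul_assoc, inv_mul_cancel₀ natCard_ne_zero, mul_one]
  have htr : P.trace = Cfsg.classInner (χ : G → ℂ) (conjChar χ : G → ℂ) := by
    rw [hP, Matrix.trace_smul, Matrix.trace_sum, Cfsg.classInner, smul_eq_mul]
    congr 1
    refine Finset.sum_congr rfl fun g _ => ?_
    rw [Matrix.trace_kronecker, ← hM, conjChar_apply, Complex.conj_conj, ← hχ]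
  have hswap : ∑ a, P a a.swap = (Nat.card G : ℂ)⁻¹ * ∑ g : G, ρ.character (g * g) := by
    simp only [hP, Matrix.smul_apply, Matrix.sum_apply, smul_eq_mul, ← Finset.mul_sum]
    rw [Finset.sum_comm]
    congr 1
    refine Finset.sum_congr rfl fun g _ => ?_
    rw [hM, map_mul, Matrix.trace, Fintype.sum_prod_type]
    simp [Matrix.kronecker_apply, Matrix.mul_apply]
  have hsP : ∀ a b, P a.swap b.swap = P a b := by
    intro a b
    simp [hP, Matrix.sum_apply, Matrix.kronecker_apply, mul_comm]
  rw [hχ] at hswap ⊢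
  refine ⟨fun hreal => ?_, fun hnon => ?_⟩
  · rw [(conjChar_eq_self_iff χ).mpr hreal, classInner_self_irr] at htr
    obtain ⟨u, v, huv⟩ := (rank_one_of_idempotent P hidem).2 htr
    rw [← hswap]
    exact sum_apply_swap P Prod.swap (fun a => a.swap_swap) hsP htr u v huv
  · rw [classInner_irr_of_ne fun h => hnon ((conjChar_eq_self_iff χ).mp h.symm)] at htr
    rw [← hswap, (rank_one_of_idempotent P hidem).1 htr]
    simp

/-- The involution count through indicators. -/
theorem card_sq_eq_one [Fintype G] :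
    (Nat.card {s : G // s * s = 1} : ℂ) = ∑ᶠ χ : Cfsg.IrrCharacter G,
      ((Nat.card G : ℂ)⁻¹ * ∑ s : G, (χ : G → ℂ) (s * s)) * (χ : G → ℂ) 1 := by
  classical
  have := Fintype.ofFinite (Cfsg.IrrCharacter G)
  rw [finsum_eq_sum_of_fintype]
  calc (Nat.card {s : G // s * s = 1} : ℂ)
      = ∑ s : G, if s * s = 1 then (1 : ℂ) else 0 := by
        rw [Finset.sum_boole, Nat.card_eq_fintype_card, Fintype.card_subtype]
    _ = ∑ s : G, (Nat.card G : ℂ)⁻¹ *
          ∑ χ : Cfsg.IrrCharacter G, (χ : G → ℂ) 1 * (χ : G → ℂ) (s * s) := by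
        refine Finset.sum_congr rfl fun s _ => ?_
        rw [sum_degree_mul_apply]
        by_cases h : s * s = 1
        · rw [if_pos h, if_pos h, inv_mul_cancel₀ natCard_ne_zero]
        · rw [if_neg h, if_neg h, mul_zero]
    _ = _ := by
        simp only [Finset.mul_sum, Finset.sum_mul]
        rw [Finset.sum_comm]
        exact Finset.sum_congr rfl fun χ _ => Finset.sum_congr rfl fun s _ => by ring

/-- As many real irreducible characters as real classes. -/
theorem card_real_irr [Finite G] :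
    Nat.card {χ : Cfsg.IrrCharacter G // ∀ g : G, ((χ : G → ℂ) g).im = 0} =
      Nat.card {C : ConjClasses G // ∀ g : G, ConjClasses.mk g = C → IsConj g g⁻¹} := by
  classical
  have := Fintype.ofFinite G
  have := Fintype.ofFinite (Cfsg.IrrCharacter G)
  have : Finite (ConjClasses G) := Finite.of_surjective _ ConjClasses.mk_surjective
  have := Fintype.ofFinite (ConjClasses G)
  have hC : ∀ x : G, IsConj x x⁻¹ →
      ∑ g ∈ Finset.univ.filter (fun g : G => ConjClasses.mk g = ConjClasses.mk x),
        (Nat.card (Subgroup.centralizer ({g} : Set G)) : ℂ) = Nat.card G := by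
    intro x _
    have hval : ∀ g ∈ Finset.univ.filter (fun g : G => ConjClasses.mk g = ConjClasses.mk x),
        (Nat.card (Subgroup.centralizer ({g} : Set G)) : ℂ) =
          Nat.card (Subgroup.centralizer ({x} : Set G)) := by
      intro g hg
      rw [Finset.mem_filter, ConjClasses.mk_eq_mk_iff_isConj] at hg
      have h1 := sum_irr_mul_conj g g
      have h2 := sum_irr_mul_conj x x
      rw [if_pos (IsConj.refl g)] at h1
      rw [if_pos (IsConj.refl x)] at h2
      rw [← h1, ← h2]
      exact Finset.sum_congr rfl fun χ _ => by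
        rw [classFunction_apply_of_isConj (isClassFunction_irr χ) hg.2]
    rw [Finset.sum_congr rfl hval, Finset.sum_const, nsmul_eq_mul, ← Nat.cast_mul]
    congr 1
    rw [← card_conjugates_mul_centralizer x, Nat.card_eq_fintype_card (α := {y : G // IsConj x y}),
      Fintype.card_subtype]
    congr 2
    ext g
    simp only [Finset.mem_filter, Finset.mem_univ, true_and, ConjClasses.mk_eq_mk_iff_isConj]
    exact isConj_comm
  have key : (Nat.card G : ℂ) *
      Nat.card {χ : Cfsg.IrrCharacter G // ∀ g : G, ((χ : G → ℂ) g).im = 0} =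
      (Nat.card G : ℂ) *
        Nat.card {C : ConjClasses G // ∀ g : G, ConjClasses.mk g = C → IsConj g g⁻¹} := by
    calc _ = ∑ χ : Cfsg.IrrCharacter G,
            (Nat.card G : ℂ) * Cfsg.classInner (χ : G → ℂ) (conjChar χ : G → ℂ) := by
          rw [Nat.card_eq_fintype_card (α := {χ : Cfsg.IrrCharacter G // _}),
            Fintype.card_subtype, ← Finset.sum_boole, Finset.mul_sum]
          refine Finset.sum_congr rfl fun χ _ => ?_
          rw [classInner_irr]
          congr 1
          exact if_congr ((conjChar_eq_self_iff χ).symm.trans eq_comm) rfl rfl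
      _ = ∑ g : G, ∑ χ : Cfsg.IrrCharacter G, (χ : G → ℂ) g * conj ((χ : G → ℂ) g⁻¹) := by
          rw [Finset.sum_comm]
          refine Finset.sum_congr rfl fun χ _ => ?_
          rw [Cfsg.classInner, ← mul_assoc, mul_inv_cancel₀ natCard_ne_zero, one_mul]
          exact Finset.sum_congr rfl fun g _ => by
            rw [conjChar_apply, apply_inv (isCharacter_irr χ)]
      _ = ∑ C : ConjClasses G, ∑ g ∈ Finset.univ.filter (fun g : G => ConjClasses.mk g = C),
            if IsConj g g⁻¹ then (Nat.card (Subgroup.centralizer ({g} : Set G)) : ℂ) else 0 := by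
          rw [Finset.sum_fiberwise Finset.univ (ConjClasses.mk : G → ConjClasses G)]
          refine Finset.sum_congr rfl fun g _ => ?_
          rw [sum_irr_mul_conj]
          split_ifs <;> rfl
      _ = ∑ C : ConjClasses G,
            if (∀ g : G, ConjClasses.mk g = C → IsConj g g⁻¹) then (Nat.card G : ℂ) else 0 := by
          refine Finset.sum_congr rfl fun C _ => ?_
          obtain ⟨x, rfl⟩ := ConjClasses.mk_surjective C
          have hiff : ∀ g : G, ConjClasses.mk g = ConjClasses.mk x →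
              (IsConj g g⁻¹ ↔ IsConj x x⁻¹) := by
            intro g hg
            rw [ConjClasses.mk_eq_mk_iff_isConj] at hg
            obtain ⟨c, hc⟩ := isConj_iff.mp hg
            have hinv : IsConj g⁻¹ x⁻¹ := isConj_iff.mpr ⟨c, by rw [← hc]; group⟩
            exact ⟨fun h => hg.symm.trans (h.trans hinv), fun h => hg.trans (h.trans hinv.symm)⟩
          by_cases hx : IsConj x x⁻¹
          · rw [if_pos fun g hg => (hiff g hg).mpr hx, ← hC x hx]
            refine Finset.sum_congr rfl fun g hg => ?_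
            rw [if_pos ((hiff g (Finset.mem_filter.mp hg).2).mpr hx)]
          · rw [if_neg fun h => hx (h x rfl)]
            refine Finset.sum_eq_zero fun g hg => ?_
            rw [if_neg fun h => hx ((hiff g (Finset.mem_filter.mp hg).2).mp h)]
      _ = _ := by
          rw [Nat.card_eq_fintype_card (α := {C : ConjClasses G // _}), Fintype.card_subtype,
            ← Finset.sum_boole, Finset.mul_sum]
          exact Finset.sum_congr rfl fun C _ => by split_ifs <;> simp
  exact_mod_cast mul_left_cancel₀ (natCard_ne_zero (G := G)) key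

/-- In a group of odd order only the identity is conjugate to its inverse. -/
theorem eq_one_of_isConj_inv [Finite G] (hodd : Odd (Nat.card G)) {g : G} (h : IsConj g g⁻¹) :
    g = 1 := by
  obtain ⟨c, hc⟩ := isConj_iff.mp h
  have h2 : Commute (c ^ 2) g := by
    show c ^ 2 * g = g * c ^ 2
    have h3 : c * g = g⁻¹ * c := mul_inv_eq_iff_eq_mul.mp hc
    have h4 : c * g⁻¹ = g * c := by
      apply mul_right_cancel (b := c⁻¹)
      rw [mul_inv_cancel_right, ← conj_inv, hc, inv_inv]
    rw [pow_two, mul_assoc, h3, ← mul_assoc, h4, mul_assoc]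
  obtain ⟨m, hm⟩ := hodd
  have hc1 : (c ^ 2) ^ (m + 1) = c := by
    rw [← pow_mul, show 2 * (m + 1) = (2 * m + 1) + 1 by ring, pow_succ, ← hm, pow_card_eq_one',
      one_mul]
  have h4 : Commute c g := hc1 ▸ h2.pow_left (m + 1)
  rw [h4.eq, mul_inv_cancel_right] at hc
  have h5 : g ^ 2 = 1 := by rw [pow_two]; exact mul_eq_one_iff_eq_inv.mpr hc
  have h6 : g ^ (2 * m + 1) = 1 := by rw [← hm]; exact pow_card_eq_one'
  rwa [pow_succ, pow_mul, h5, one_pow, one_mul] at h6

/-- In a group of odd order the only real irreducible character is the trivial one. -/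
theorem eq_oneChar_of_real [Finite G] (hodd : Odd (Nat.card G)) (χ : Cfsg.IrrCharacter G)
    (hreal : ∀ g : G, ((χ : G → ℂ) g).im = 0) : χ = oneChar G := by
  have hcard : Nat.card {χ : Cfsg.IrrCharacter G // ∀ g : G, ((χ : G → ℂ) g).im = 0} = 1 := by
    rw [card_real_irr, Nat.card_eq_one_iff_unique]
    refine ⟨⟨fun a b => ?_⟩, ⟨⟨ConjClasses.mk 1, fun g hg => ?_⟩⟩⟩
    · obtain ⟨x, hx⟩ := ConjClasses.mk_surjective a.1
      obtain ⟨y, hy⟩ := ConjClasses.mk_surjective b.1
      apply Subtype.ext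
      rw [← hx, ← hy, eq_one_of_isConj_inv hodd (a.2 x hx), eq_one_of_isConj_inv hodd (b.2 y hy)]
    · rw [ConjClasses.mk_eq_mk_iff_isConj, isConj_one_left] at hg
      rw [hg, inv_one]
  have := (Nat.card_eq_one_iff_unique.mp hcard).1
  exact congrArg Subtype.val (Subsingleton.elim
    (⟨χ, hreal⟩ : {χ : Cfsg.IrrCharacter G // ∀ g : G, ((χ : G → ℂ) g).im = 0})
    ⟨oneChar G, fun g => by simp [oneChar_apply]⟩)

theorem odd_sq_eq (d : ℕ) (hd : Odd d) : ∃ k, d ^ 2 = 8 * k + 1 := by
  obtain ⟨m, rfl⟩ := hd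
  obtain ⟨j, hj⟩ := Nat.even_mul_succ_self m
  refine ⟨j, ?_⟩
  have : (2 * m + 1) ^ 2 = 4 * (m * (m + 1)) + 1 := by ring
  omega

/-- Burnside: the order and class number of an odd order group agree modulo 16. -/
theorem card_modEq_classes [Finite G] (hodd : Odd (Nat.card G)) :
    Nat.card G ≡ Nat.card (ConjClasses G) [MOD 16] := by
  classical
  have := Fintype.ofFinite (Cfsg.IrrCharacter G)
  choose d hd0 hdvd hd using fun χ : Cfsg.IrrCharacter G => Degree.exists_degree_dvd χ
  choose k hk using fun χ => odd_sq_eq (d χ) (Odd.of_dvd_nat hodd (hdvd χ))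
  have hsum : Nat.card G = 8 * ∑ χ, k χ + Fintype.card (Cfsg.IrrCharacter G) := by
    have h := finsum_degree_sq (G := G)
    rw [finsum_eq_sum_of_fintype] at h
    have h' : ∑ χ, (d χ) ^ 2 = Nat.card G := by
      have : ((∑ χ, (d χ) ^ 2 : ℕ) : ℂ) = Nat.card G := by
        rw [← h]; push_cast
        exact Finset.sum_congr rfl fun χ _ => by rw [hd]
      exact_mod_cast this
    rw [← h', Finset.sum_congr rfl fun χ _ => hk χ, Finset.sum_add_distrib, ← Finset.mul_sum]
    simp
  have hdconj : ∀ χ, d (conjChar χ) = d χ := by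
    intro χ
    have h1 : (conjChar χ : G → ℂ) 1 = (χ : G → ℂ) 1 := by
      rw [conjChar_apply, conj_apply_one (isCharacter_irr χ)]
    rw [hd, hd, Nat.cast_inj] at h1
    exact h1
  have hkconj : ∀ χ, k (conjChar χ) = k χ := by
    intro χ
    have := hk (conjChar χ)
    rw [hdconj, hk χ] at this
    omega
  have heven : ((∑ χ, k χ : ℕ) : ZMod 2) = 0 := by
    push_cast
    refine Finset.sum_involution (fun χ _ => conjChar χ) (fun χ _ => ?_) (fun χ _ hne hfix => ?_)
      (fun _ _ => Finset.mem_univ _) (fun χ _ => conjChar_conjChar χ)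
    · rw [hkconj, CharTwo.add_self_eq_zero]
    · refine hne ?_
      have h1 := eq_oneChar_of_real hodd χ ((conjChar_eq_self_iff χ).mp hfix)
      have h2 : (χ : G → ℂ) 1 = 1 := by rw [h1]; rfl
      rw [hd, Nat.cast_eq_one] at h2
      have h3 := hk χ
      rw [h2] at h3
      have : k χ = 0 := by omega
      simp [this]
  rw [ZMod.natCast_eq_zero_iff_even] at heven
  obtain ⟨j, hj⟩ := heven
  rw [← card_irr_eq_card_conjClasses, Nat.card_eq_fintype_card (α := Cfsg.IrrCharacter G), hsum,
    hj, Nat.ModEq]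
  omega

end Cfsg.Agent.Lib.Characters.Indicator
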