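import Cfsg.Agent.Lib.Characters.Basic

/-!
# Induction from the normalizer of a trivial-intersection set
-/

namespace Cfsg.Agent.Lib.Characters.TI

open Cfsg.Agent.Lib.Induced.Basic

universe u

variable {G : Type u} [Group G] [Fintype G] (T : Set G)

theorem indFun_apply_TI (hTI : ∀ g : G, g ∉ Subgroup.normalizer T → ∀ t ∈ T,
    g * t * g⁻¹ ∈ T → t = 1) (ψ : Subgroup.normalizer T → ℂ)
    (hψ : Cfsg.IsClassFunction (Subgroup.normalizer T) ψ)
    (hψT : ∀ x : Subgroup.normalizer T, (x : G) ∉ T → ψ x = 0)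
    (t : Subgroup.normalizer T) (htT : (t : G) ∈ T) (ht1 : t ≠ 1) :
    Cfsg.indFun (Subgroup.normalizer T) ψ t = ψ t := by
  classical
  let N := Subgroup.normalizer T
  have key : ∀ x : G, Cfsg.extendByZero N ψ (x⁻¹ * t * x) = if x ∈ N then ψ t else 0 := by
    intro x
    split_ifs with hx
    · rw [extendByZero_of_mem N ψ (N.mul_mem (N.mul_mem (N.inv_mem hx) t.2) hx)]
      have := hψ t ⟨x⁻¹, N.inv_mem hx⟩
      rw [← this]
      congr 1
      exact Subtype.ext (by simp)
    · by_cases hm : x⁻¹ * t * x ∈ N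
      · rw [extendByZero_of_mem N ψ hm]
        refine hψT _ fun hT => ?_
        have h1 : (t : G) = 1 :=
          hTI x⁻¹ (fun h => hx (inv_mem_iff.mp h)) t htT (by rw [inv_inv]; exact hT)
        exact ht1 (Subtype.ext h1)
      · exact extendByZero_of_not_mem N ψ hm
  show Cfsg.indFun N ψ t = ψ t
  simp only [Cfsg.indFun, key]
  rw [← Finset.sum_filter, Finset.sum_const, nsmul_eq_mul, ← mul_assoc]
  have : (Finset.univ.filter (fun x : G => x ∈ N)).card = Nat.card N := by
    rw [Nat.card_eq_fintype_card, Fintype.card_subtype]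
  rw [this, inv_mul_cancel₀ (subgroup_card_ne_zero N), one_mul]

theorem classInner_indFun_TI (hTI : ∀ g : G, g ∉ Subgroup.normalizer T → ∀ t ∈ T,
    g * t * g⁻¹ ∈ T → t = 1) [Fintype (Subgroup.normalizer T)]
    (ψ θ : Subgroup.normalizer T → ℂ)
    (hθ : Cfsg.IsClassFunction (Subgroup.normalizer T) θ)
    (hψT : ∀ x : Subgroup.normalizer T, (x : G) ∉ T → ψ x = 0)
    (hθT : ∀ x : Subgroup.normalizer T, (x : G) ∉ T → θ x = 0) (hψ1 : ψ 1 = 0) :
    Cfsg.classInner (Cfsg.indFun (Subgroup.normalizer T) ψ)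
      (Cfsg.indFun (Subgroup.normalizer T) θ) = Cfsg.classInner ψ θ := by
  rw [frobenius_reciprocity _ ψ (isClassFunction_indFun _ θ)]
  simp only [Cfsg.classInner]
  congr 1
  refine Finset.sum_congr rfl fun x _ => ?_
  by_cases hx : (x : G) ∈ T
  · by_cases h1 : x = 1
    · rw [h1, hψ1, zero_mul, zero_mul]
    · rw [indFun_apply_TI T hTI θ hθ hθT x hx h1]
  · rw [hψT x hx, zero_mul, zero_mul]

end Cfsg.Agent.Lib.Characters.TI
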