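import Cfsg.Agent.Lib.Characters.Generalized
import Cfsg.Agent.Lib.Induced.Character
import Mathlib.GroupTheory.GroupAction.MultipleTransitivity

/-!
# Permutation characters and double transitivity
-/

namespace Cfsg.Agent.Lib.Characters.Transitive

open scoped ComplexConjugate
open MulAction
open Cfsg.Agent.Lib.Induced.Basic Cfsg.Agent.Lib.Characters.Basic
open Cfsg.Agent.Lib.Characters.Complete

universe u v

variable {G : Type u} [Group G]

/-- The permutation character. -/
noncomputable def permChar (X : Type v) [MulAction G X] : G → ℂ :=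
  fun g => (Nat.card (fixedBy X g) : ℂ)

theorem sum_permChar [Fintype G] (X : Type v) [MulAction G X] [Finite X] :
    ∑ g : G, permChar X g = (Nat.card (orbitRel.Quotient G X) : ℂ) * Nat.card G := by
  classical
  have := Fintype.ofFinite X
  have := Fintype.ofFinite (orbitRel.Quotient G X)
  have h := sum_card_fixedBy_eq_card_orbits_mul_card_group G X
  simp only [permChar, Nat.card_eq_fintype_card]
  exact_mod_cast h

theorem classInner_permChar [Fintype G] (X : Type v) [MulAction G X] [Finite X] :
    Cfsg.classInner (permChar X : G → ℂ) (permChar X) =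
      (Nat.card (orbitRel.Quotient G (X × X)) : ℂ) := by
  have h : ∀ g : G, permChar X g * conj (permChar X g) = permChar (X × X) g := by
    intro g
    simp only [permChar, map_natCast, ← Nat.cast_mul, ← Nat.card_prod]
    congr 1
    exact Nat.card_congr
      { toFun := fun a => ⟨(a.1.1, a.2.1), Prod.ext a.1.2 a.2.2⟩
        invFun := fun a => (⟨a.1.1, congrArg Prod.fst a.2⟩, ⟨a.1.2, congrArg Prod.snd a.2⟩)
        left_inv := fun _ => rfl
        right_inv := fun _ => rfl }
  rw [Cfsg.classInner, Finset.sum_congr rfl fun g _ => h g, sum_permChar, mul_comm (_ : ℂ)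
    (Nat.card G : ℂ), ← mul_assoc, inv_mul_cancel₀ natCard_ne_zero, one_mul]

theorem classInner_permChar_one [Fintype G] (X : Type v) [MulAction G X] [Finite X]
    [IsPretransitive G X] [Nonempty X] :
    Cfsg.classInner (permChar X) (fun _ : G => (1 : ℂ)) = 1 := by
  have h : Nat.card (orbitRel.Quotient G X) = 1 := by
    rw [Nat.card_eq_one_iff_unique]
    exact ⟨(pretransitive_iff_subsingleton_quotient G X).mp inferInstance,
      Nonempty.map (fun x : X => (⟦x⟧ : orbitRel.Quotient G X)) inferInstance⟩
  simp only [Cfsg.classInner, map_one, mul_one, sum_permChar, h, Nat.cast_one, one_mul,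
    inv_mul_cancel₀ natCard_ne_zero]

/-- The permutation character minus one of a transitive action is a character. -/
theorem isCharacter_permChar_sub_one [Finite G] (X : Type v) [MulAction G X] [Finite X]
    [IsPretransitive G X] [Nonempty X] :
    Cfsg.IsCharacter G (fun g => permChar X g - 1) := by
  classical
  have := Fintype.ofFinite G
  have := Fintype.ofFinite (Cfsg.IrrCharacter G)
  have hchar : Cfsg.IsCharacter G (permChar X) := by
    obtain ⟨x⟩ := (inferInstance : Nonempty X)
    show Cfsg.IsCharacter G (fun g => (Nat.card (fixedBy X g) : ℂ))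
    rw [card_fixedBy_eq_indFun X x]
    exact Cfsg.Agent.Lib.Induced.Character.isCharacter_indFun _ isCharacter_one
  have hdec := classFunction_eq_sum (isClassFunction_of_isCharacter hchar)
  rw [← Finset.add_sum_erase _ _ (Finset.mem_univ (oneChar G))] at hdec
  have h1 : Cfsg.classInner (permChar X) (oneChar G : G → ℂ) = 1 := classInner_permChar_one X
  rw [h1, one_smul] at hdec
  have heq : (fun g => permChar X g - 1) = ∑ χ ∈ Finset.univ.erase (oneChar G),
      Cfsg.classInner (permChar X) (χ : G → ℂ) • (χ : G → ℂ) := by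
    funext g
    rw [sub_eq_iff_eq_add, congrFun hdec g, Pi.add_apply, oneChar_apply, add_comm]
  rw [heq]
  refine isCharacter_sum _ fun χ _ => ?_
  obtain ⟨k, hk⟩ := exists_classInner_nat hchar (isCharacter_irr χ)
  rw [hk, Nat.cast_smul_eq_nsmul]
  exact isCharacter_nsmul (isCharacter_irr χ) k

theorem card_orbits_prod_eq_two_iff (X : Type v) [MulAction G X] [Finite X]
    [IsPretransitive G X] (hX : 2 ≤ Nat.card X) :
    Nat.card (orbitRel.Quotient G (X × X)) = 2 ↔ IsMultiplyPretransitive G X 2 := by
  classical
  have hnt : Nontrivial X := (Finite.one_lt_card_iff_nontrivial).mp (by omega)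
  obtain ⟨a, b, hab⟩ := exists_pair_ne X
  have hne : (⟦(a, a)⟧ : orbitRel.Quotient G (X × X)) ≠ ⟦(a, b)⟧ := by
    intro h
    obtain ⟨g, hg⟩ := (orbitRel_apply.mp (Quotient.exact h) : (a, a) ∈ orbit G (a, b))
    exact hab (smul_left_cancel g ((congrArg Prod.fst hg).trans (congrArg Prod.snd hg).symm))
  rw [is_two_pretransitive_iff]
  refine ⟨fun h2 => ?_, fun h2 => ?_⟩
  · have key : ∀ x y : X, x ≠ y → ∃ g : G, g • a = x ∧ g • b = y := by
      intro x y hxy
      obtain ⟨p, q, -, hall⟩ := Nat.card_eq_two_iff.mp h2
      have hmem : ∀ z : orbitRel.Quotient G (X × X), z = ⟦(a, a)⟧ ∨ z = ⟦(a, b)⟧ := by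
        intro z
        have hz := hall ▸ Set.mem_univ z
        have ha := hall ▸ Set.mem_univ (⟦(a, a)⟧ : orbitRel.Quotient G (X × X))
        have hb := hall ▸ Set.mem_univ (⟦(a, b)⟧ : orbitRel.Quotient G (X × X))
        simp only [Set.mem_insert_iff, Set.mem_singleton_iff] at hz ha hb
        rcases hz with rfl | rfl <;> rcases ha with ha | ha <;> rcases hb with hb | hb <;> grind
      rcases hmem ⟦(x, y)⟧ with h | h
      · obtain ⟨g, hg⟩ := (orbitRel_apply.mp (Quotient.exact h) : (x, y) ∈ orbit G (a, a))
        exact absurd ((congrArg Prod.fst hg).symm.trans (congrArg Prod.snd hg)) hxy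
      · obtain ⟨g, hg⟩ := (orbitRel_apply.mp (Quotient.exact h) : (x, y) ∈ orbit G (a, b))
        exact ⟨g, congrArg Prod.fst hg, congrArg Prod.snd hg⟩
    intro x y x' y' hxy hxy'
    obtain ⟨g, rfl, rfl⟩ := key x y hxy
    obtain ⟨g', rfl, rfl⟩ := key x' y' hxy'
    exact ⟨g' * g⁻¹, by simp [mul_smul], by simp [mul_smul]⟩
  · rw [Nat.card_eq_two_iff]
    refine ⟨_, _, hne, Set.eq_univ_of_forall fun z => ?_⟩
    induction z using Quotient.inductionOn with
    | _ z =>
      obtain ⟨x, y⟩ := z
      by_cases hxy : x = y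
      · obtain ⟨g, hg⟩ := exists_smul_eq G a x
        left
        exact Quotient.sound ⟨g, Prod.ext hg (hg.trans hxy)⟩
      · obtain ⟨g, h1, h2'⟩ := h2 hab hxy
        right
        exact Quotient.sound ⟨g, Prod.ext h1 h2'⟩

/-- Double transitivity is irreducibility of the permutation character minus one. -/
theorem isIrrCharacter_iff [Finite G] (X : Type v) [MulAction G X] [Finite X]
    [IsPretransitive G X] (hX : 2 ≤ Nat.card X) :
    Cfsg.IsIrrCharacter G (fun g => permChar X g - 1) ↔ IsMultiplyPretransitive G X 2 := by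
  have := Fintype.ofFinite G
  have : Nonempty X := Nat.card_pos_iff.mp (by omega : 0 < Nat.card X) |>.1
  rw [isIrrCharacter_iff_classInner_self (isCharacter_permChar_sub_one X),
    ← card_orbits_prod_eq_two_iff X hX]
  have h1 := classInner_permChar_one (G := G) X
  have h1' : Cfsg.classInner (fun _ : G => (1 : ℂ)) (permChar X) = 1 := by
    rw [← classInner_conj_symm, h1, map_one]
  have h0 : Cfsg.classInner (fun _ : G => (1 : ℂ)) (fun _ : G => (1 : ℂ)) = 1 :=
    classInner_self_irr (oneChar G)
  rw [show (fun g => permChar X g - 1) = permChar X - fun _ : G => (1 : ℂ) from rfl,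
    classInner_sub_left, classInner_sub_right, classInner_sub_right, h1, h1', h0,
    classInner_permChar, sub_self, sub_zero, sub_eq_iff_eq_add]
  norm_num
  norm_cast

end Cfsg.Agent.Lib.Characters.Transitive
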