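import Cfsg.Agent.Lib.Characters.Generalized
import Cfsg.Agent.Lib.Characters.Degree
import Cfsg.Agent.Lib.Brauer.Monomial
import Cfsg.Agent.Lib.Brauer.Characterization
import Cfsg.Agent.S0164
import Mathlib.GroupTheory.SchurZassenhaus
import Mathlib.GroupTheory.Nilpotent

/-!
# Characters of `p`-defect zero vanish on `p`-singular elements
-/

namespace Cfsg.Agent.Lib.Characters.DefectZero

open scoped ComplexConjugate
open Cfsg.Agent.Lib.Induced.Basic Cfsg.Agent.Lib.Characters.Basic
open Cfsg.Agent.Lib.Characters.Complete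

universe u

/-- In a finite nilpotent group elements of coprime order commute. -/
theorem commute_of_coprime {E : Type u} [Group E] [Finite E] [Group.IsNilpotent E] {x y : E}
    (h : Nat.Coprime (orderOf x) (orderOf y)) : Commute x y := by
  have hn : ∀ {q : ℕ} [Fact q.Prime] (P : Sylow q E), (P : Subgroup E).Normal := fun {q} _ P =>
    Sylow.normal_of_normalizerCondition Group.normalizerCondition_of_isNilpotent P
  let e := Sylow.directProductOfNormal (G := E) @hn
  obtain ⟨a, rfl⟩ := e.surjective x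
  obtain ⟨b, rfl⟩ := e.surjective y
  rw [MulEquiv.orderOf_eq, MulEquiv.orderOf_eq] at h
  refine Commute.map ?_ e
  funext q P
  show a q P * b q P = b q P * a q P
  have ha : orderOf (a q P) ∣ orderOf a := by
    have h1 : a q P ^ orderOf a = 1 := by
      have := congrFun (congrFun (pow_orderOf_eq_one a) q) P
      simpa [Pi.pow_apply] using this
    exact orderOf_dvd_of_pow_eq_one h1
  have hb : orderOf (b q P) ∣ orderOf b := by
    have h1 : b q P ^ orderOf b = 1 := by
      have := congrFun (congrFun (pow_orderOf_eq_one b) q) P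
      simpa [Pi.pow_apply] using this
    exact orderOf_dvd_of_pow_eq_one h1
  have hq : Fact (q : ℕ).Prime := ⟨Nat.prime_of_mem_primeFactors q.2⟩
  obtain ⟨i, hi⟩ := IsPGroup.iff_orderOf.mp P.isPGroup' (a q P)
  obtain ⟨j, hj⟩ := IsPGroup.iff_orderOf.mp P.isPGroup' (b q P)
  have hcop : Nat.Coprime ((q : ℕ) ^ i) ((q : ℕ) ^ j) := by
    rw [← hi, ← hj]
    exact Nat.Coprime.of_dvd ha hb h
  rcases Nat.eq_zero_or_pos i with rfl | hi0
  · rw [pow_zero, orderOf_eq_one_iff] at hi
    rw [hi, one_mul, mul_one]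
  rcases Nat.eq_zero_or_pos j with rfl | hj0
  · rw [pow_zero, orderOf_eq_one_iff] at hj
    rw [hj, one_mul, mul_one]
  rw [Nat.coprime_pow_left_iff hi0, Nat.coprime_pow_right_iff hj0, Nat.coprime_self] at hcop
  exact absurd hcop hq.out.ne_one

/-- The elements of order prime to `p` of a nilpotent group form a complement to the Sylow
`p`-subgroup, centralised by it. -/
theorem exists_hall {E : Type u} [Group E] [Finite E] [Group.IsNilpotent E] {p : ℕ}
    [Fact p.Prime] (P : Sylow p E) :
    ∃ Q : Subgroup E, Nat.card Q * Nat.card P = Nat.card E ∧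
      (∀ x : E, x ∈ Q ↔ p.Coprime (orderOf x)) ∧
      (∀ x ∈ Q, ∀ y ∈ (P : Subgroup E), y * x = x * y) := by
  have hPn : (P : Subgroup E).Normal :=
    Sylow.normal_of_normalizerCondition Group.normalizerCondition_of_isNilpotent P
  obtain ⟨Q, hQ⟩ := Subgroup.exists_right_complement'_of_coprime
    (N := (P : Subgroup E)) P.card_coprime_index
  have hcard : Nat.card Q * Nat.card P = Nat.card E := by
    rw [mul_comm]; exact hQ.card_mul
  obtain ⟨a, ha⟩ := IsPGroup.iff_card.mp P.isPGroup'
  have hQp : ¬ p ∣ Nat.card Q := by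
    rw [← hQ.symm.index_eq_card]; exact P.not_dvd_index
  have hreg : ∀ x ∈ Q, p.Coprime (orderOf x) := fun x hx => by
    rw [Nat.Prime.coprime_iff_not_dvd Fact.out]
    exact fun h => hQp (h.trans (Subgroup.orderOf_dvd_natCard _ hx))
  have hcomm : ∀ x ∈ Q, ∀ y ∈ (P : Subgroup E), y * x = x * y := fun x hx y hy => by
    refine (commute_of_coprime ?_).eq
    exact ((hreg x hx).pow_left a).coprime_dvd_left
      (ha ▸ Subgroup.orderOf_dvd_natCard _ hy)
  have hQn : Q.Normal := by
    refine ⟨fun x hx c => ?_⟩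
    obtain ⟨⟨⟨y, hy⟩, ⟨z, hz⟩⟩, rfl⟩ := hQ.2 c
    show y * z * x * (y * z)⁻¹ ∈ Q
    have h1 : z * x * z⁻¹ ∈ Q := Q.mul_mem (Q.mul_mem hz hx) (Q.inv_mem hz)
    have h2 : y * z * x * (y * z)⁻¹ = z * x * z⁻¹ := by
      have := hcomm _ h1 y hy
      calc y * z * x * (y * z)⁻¹ = y * (z * x * z⁻¹) * y⁻¹ := by group
        _ = _ := by rw [this, mul_inv_cancel_right]
    rw [h2]; exact h1
  refine ⟨Q, hcard, fun x => ⟨hreg x, fun hx => ?_⟩, hcomm⟩
  have hidx : Q.index = Nat.card P := by
    have := Q.card_mul_index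
    rw [← hcard] at this
    exact Nat.eq_of_mul_eq_mul_left Nat.card_pos this
  rw [← QuotientGroup.eq_one_iff (N := Q), ← orderOf_eq_one_iff]
  refine Nat.eq_one_of_dvd_coprimes (hx.pow_left a) ?_ (orderOf_map_dvd (QuotientGroup.mk' Q) x)
  rw [← ha, ← hidx]
  exact orderOf_dvd_natCard (x : E ⧸ Q)

variable {G : Type u} [Group G] [Finite G]

/-- The restriction to `p`-regular elements. -/
noncomputable def regPart (p : ℕ) (χ : G → ℂ) : G → ℂ :=
  fun x => if p.Coprime (orderOf x) then χ x else 0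

theorem isClassFunction_regPart {p : ℕ} {χ : G → ℂ} (hχ : Cfsg.IsClassFunction G χ) :
    Cfsg.IsClassFunction G (regPart p χ) := fun g h => by
  have : orderOf (h * g * h⁻¹) = orderOf g := (MulAut.conj h).orderOf_eq g
  simp only [regPart, this, hχ g h]

theorem regPart_restrict {p n r : ℕ} [Fact p.Prime] (χ : Cfsg.IrrCharacter G) {e : ℕ}
    (hG : Nat.card G = p ^ n * r) (hr : ¬ p ∣ r) (hdeg : (χ : G → ℂ) 1 = ((p ^ n * e : ℕ) : ℂ))
    (E : Subgroup G) [Group.IsNilpotent E] :
    Cfsg.IsGeneralizedCharacter E (fun x : E => regPart p (χ : G → ℂ) x) := by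
  classical
  have := Fintype.ofFinite E
  have hχ := isCharacter_irr χ
  refine Generalized.of_classInner_int ?_ ?_
  · intro g h
    exact isClassFunction_regPart (isClassFunction_irr χ) (g : G) (h : G)
  intro ψ
  let P : Sylow p E := default
  obtain ⟨Q, hcard, hmem, hcomm⟩ := exists_hall P
  have := Fintype.ofFinite Q
  obtain ⟨m, hm⟩ := exists_classInner_nat
    (isCharacter_comp (E.subtype.comp Q.subtype) hχ)
    (isCharacter_comp Q.subtype (isCharacter_irr ψ))
  have hQ0 : (Nat.card Q : ℂ) ≠ 0 := natCard_ne_zero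
  have hP0 : (Nat.card P : ℂ) ≠ 0 := natCard_ne_zero
  set S : ℂ := ∑ u : Q, (χ : G → ℂ) ((u : E) : G) * conj ((ψ : E → ℂ) u) with hS
  have hm' : S = (Nat.card Q : ℂ) * m := by
    rw [← hm, Cfsg.classInner, ← mul_assoc, mul_inv_cancel₀ hQ0, one_mul]
    rfl
  have hsum : ∑ x : E, regPart p (χ : G → ℂ) x * conj ((ψ : E → ℂ) x) = S := by
    rw [hS, ← Finset.sum_subtype (Finset.univ.filter (fun x : E => x ∈ Q)) (by simp)
      (fun x : E => (χ : G → ℂ) (x : G) * conj ((ψ : E → ℂ) x)), Finset.sum_filter]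
    refine Finset.sum_congr rfl fun x _ => ?_
    simp only [regPart, Subgroup.orderOf_coe, ← hmem x]
    by_cases hx : x ∈ Q <;> simp [hx]
  have hinner : Cfsg.classInner (fun x : E => regPart p (χ : G → ℂ) x) (ψ : E → ℂ) =
      (m : ℂ) / Nat.card P := by
    rw [Cfsg.classInner, hsum, hm', ← hcard, Nat.cast_mul]
    field_simp
  -- `r χ(u) / |P|` is an algebraic integer
  obtain ⟨d, ρ, hρ, hc⟩ := exists_rep χ
  have hdim : Module.finrank ℂ (Fin d → ℂ) = p ^ n * e := by
    rw [← hc, Representation.char_one, Nat.cast_inj] at hdeg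
    exact hdeg
  have hd0 : 0 < p ^ n * e := hdim ▸ finrank_pos_of_isIrreducible ρ
  have hint : ∀ u : Q, IsIntegral ℤ ((r : ℂ) * (χ : G → ℂ) ((u : E) : G) / Nat.card P) := by
    intro u
    set g : G := ((u : E) : G)
    have hle : (P : Subgroup E).map E.subtype ≤ Subgroup.centralizer ({g} : Set G) := by
      rintro _ ⟨y, hy, rfl⟩
      refine Subgroup.mem_centralizer_singleton_iff.mpr ?_
      exact congrArg Subtype.val (hcomm _ u.2 y hy)
    obtain ⟨t, ht⟩ := Subgroup.card_dvd_of_le hle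
    rw [Subgroup.card_map_of_injective E.subtype_injective] at ht
    set C := Subgroup.centralizer ({g} : Set G)
    have hkey := C.card_mul_index
    rw [ht, hG] at hkey
    have hkey' : (Nat.card P : ℂ) * t * C.index = (p : ℂ) ^ n * r := by exact_mod_cast hkey
    have hω := Cfsg.Agent.Lib.Induced.Integral.isIntegral_centralCharacter ρ g
    rw [hdim, hc] at hω
    have h2 := ((isIntegral_natCast (t * e : ℕ)).mul hω : IsIntegral ℤ _)
    have hpn : ((p : ℂ) ^ n) ≠ 0 :=
      pow_ne_zero _ (Nat.cast_ne_zero.mpr (Fact.out : p.Prime).ne_zero)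
    have he : (e : ℂ) ≠ 0 := Nat.cast_ne_zero.mpr (by rintro rfl; simp at hd0)
    have heq : (r : ℂ) * (χ : G → ℂ) g / Nat.card P =
        ((t * e : ℕ) : ℂ) * ((C.index : ℂ) * (χ : G → ℂ) g / ((p ^ n * e : ℕ) : ℂ)) := by
      push_cast
      field_simp [hP0, he, hpn]
      linear_combination -((χ : G → ℂ) g) * hkey'
    rw [heq]
    exact h2
  have hint2 : IsIntegral ℤ (((r * Nat.card Q * m : ℕ) : ℂ) / Nat.card P) := by
    have : ((r * Nat.card Q * m : ℕ) : ℂ) / Nat.card P =
        ∑ u : Q, (r : ℂ) * (χ : G → ℂ) ((u : E) : G) / Nat.card P * conj ((ψ : E → ℂ) u) := by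
      push_cast
      rw [mul_assoc, ← hm', hS, Finset.mul_sum, Finset.sum_div]
      exact Finset.sum_congr rfl fun u _ => by ring
    rw [this]
    exact IsIntegral.sum _ fun u _ =>
      (hint u).mul (Degree.isIntegral_conj (isIntegral_apply (isCharacter_irr ψ) _))
  have hq : IsIntegral ℤ (((r * Nat.card Q * m : ℕ) : ℚ) / Nat.card P) := by
    refine (isIntegral_algHom_iff ((algebraMap ℚ ℂ).toIntAlgHom)
      (algebraMap ℚ ℂ).injective).mp ?_
    simpa using hint2
  obtain ⟨z, hz⟩ := IsIntegrallyClosed.isIntegral_iff.mp hq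
  have hdvd : Nat.card P ∣ r * Nat.card Q * m := by
    rw [eq_intCast, eq_div_iff (Nat.cast_ne_zero.mpr Nat.card_pos.ne')] at hz
    exact Int.natCast_dvd_natCast.mp ⟨z, by rw [mul_comm (Nat.card P : ℤ)]; exact_mod_cast hz.symm⟩
  obtain ⟨a, ha⟩ := IsPGroup.iff_card.mp P.isPGroup'
  have hQp : ¬ p ∣ Nat.card Q := fun h => by
    obtain ⟨x, hx⟩ := exists_prime_orderOf_dvd_card' (G := Q) p h
    have := (hmem (x : E)).mp x.2
    rw [Subgroup.orderOf_coe, hx, Nat.coprime_self] at this
    exact (Fact.out : p.Prime).ne_one this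
  have hcop : (Nat.card P).Coprime (r * Nat.card Q) := by
    rw [ha]
    exact Nat.Coprime.pow_left a
      ((Nat.Prime.coprime_iff_not_dvd Fact.out).mpr fun h =>
        ((Fact.out : p.Prime).dvd_mul.mp h).elim hr hQp)
  obtain ⟨k, hk⟩ := hcop.dvd_of_dvd_mul_left hdvd
  refine ⟨k, ?_⟩
  rw [hinner, hk, Nat.cast_mul, mul_div_cancel_left₀ _ hP0, Int.cast_natCast]

/-- An irreducible character whose degree is divisible by the full `p`-part of the group order
vanishes on the elements of order divisible by `p`. -/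
theorem apply_eq_zero {p n r : ℕ} (hp : p.Prime) (χ : Cfsg.IrrCharacter G) {e : ℕ}
    (hG : Nat.card G = p ^ n * r) (hr : ¬ p ∣ r) (hdeg : (χ : G → ℂ) 1 = ((p ^ n * e : ℕ) : ℂ))
    {x : G} (hx : p ∣ orderOf x) : (χ : G → ℂ) x = 0 := by
  classical
  have : Fact p.Prime := ⟨hp⟩
  have := Fintype.ofFinite G
  have hgen : Cfsg.IsGeneralizedCharacter G (regPart p (χ : G → ℂ)) :=
    Cfsg.Agent.S0164.result _ (isClassFunction_regPart (isClassFunction_irr χ))
      fun E q hq hE => by
        haveI := Cfsg.Agent.Lib.Brauer.Monomial.isNilpotent_of_elementary hq hE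
        exact regPart_restrict χ hG hr hdeg E
  obtain ⟨z, hz⟩ := Generalized.exists_classInner_int hgen
    (Generalized.of_isCharacter (isCharacter_irr χ))
  set R := Finset.univ.filter (fun g : G => p.Coprime (orderOf g))
  have hz' : (Nat.card G : ℝ) * z = ∑ g ∈ R, Complex.normSq ((χ : G → ℂ) g) := by
    apply Complex.ofReal_injective
    push_cast
    rw [Finset.sum_filter, ← hz, Cfsg.classInner, ← mul_assoc, mul_inv_cancel₀ natCard_ne_zero,
      one_mul]
    refine Finset.sum_congr rfl fun g _ => ?_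
    simp only [regPart]
    split_ifs with h
    · rw [Complex.normSq_eq_conj_mul_self, mul_comm]
    · rw [zero_mul]
  have htot : (Nat.card G : ℝ) = ∑ g : G, Complex.normSq ((χ : G → ℂ) g) := by
    apply Complex.ofReal_injective
    push_cast
    have h := classInner_self_irr χ
    rw [Cfsg.classInner, inv_mul_eq_one₀ natCard_ne_zero] at h
    rw [h]
    exact Finset.sum_congr rfl fun g _ => by rw [Complex.normSq_eq_conj_mul_self, mul_comm]
  have hpos : 0 < ∑ g ∈ R, Complex.normSq ((χ : G → ℂ) g) :=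
    Finset.sum_pos' (fun g _ => Complex.normSq_nonneg _) ⟨1, by simp [R],
      Complex.normSq_pos.mpr (apply_one_ne_zero χ)⟩
  have hxR : x ∉ R := by
    simp only [R, Finset.mem_filter, Finset.mem_univ, true_and, hp.coprime_iff_not_dvd, not_not]
    exact hx
  have hle : ∑ g ∈ R, Complex.normSq ((χ : G → ℂ) g) + Complex.normSq ((χ : G → ℂ) x) ≤
      Nat.card G := by
    rw [htot, ← Finset.sum_add_sum_compl R fun g => Complex.normSq ((χ : G → ℂ) g)]
    exact add_le_add le_rfl (Finset.single_le_sum (fun g _ => Complex.normSq_nonneg _)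
      (Finset.mem_compl.mpr hxR))
  have hG0 : (0 : ℝ) < Nat.card G := Nat.cast_pos.mpr Nat.card_pos
  rw [← hz'] at hpos hle
  have hz1 : (1 : ℤ) ≤ z := by
    have : (0 : ℝ) < z := (pos_iff_pos_of_mul_pos hpos).mp hG0
    exact_mod_cast this
  have hz1' : (1 : ℝ) ≤ z := by exact_mod_cast hz1
  have h0 : Complex.normSq ((χ : G → ℂ) x) ≤ 0 := by nlinarith
  exact Complex.normSq_eq_zero.mp (le_antisymm h0 (Complex.normSq_nonneg _))

end Cfsg.Agent.Lib.Characters.DefectZero
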